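import Groth.Agent.Lib.KInj.Derived
import Groth.Agent.Lib.GrothSS.Acyclic
import Groth.Agent.Lib.HoCat.DerivedCoproduct
import Mathlib.Algebra.Homology.DerivedCategory.RightDerivedFunctorPlus
import Mathlib.Algebra.Homology.HomotopyCategory.KInjective
import Mathlib.CategoryTheory.Limits.Constructions.Filtered

/-!
Complexes on which the unbounded right derived functor is computed termwise.
-/

set_option autoImplicit false
universe w w' v v' u u'
open CategoryTheory CategoryTheory.Limits Pretriangulated

namespace GrothLib.CohDer19.Good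

variable {A : Type u} [Category.{v} A] [Abelian A] [IsGrothendieckAbelian.{v} A] [HasDerivedCategory.{w} A]
  {B : Type u'} [Category.{v'} B] [Abelian B] [HasDerivedCategory.{w'} B]
  (F : A ⥤ B) [F.Additive]

/-- `F` applied termwise, with values in the derived category. -/
noncomputable abbrev mapD : HomotopyCategory A (ComplexShape.up ℤ) ⥤ DerivedCategory B :=
  F.mapHomotopyCategory (ComplexShape.up ℤ) ⋙ DerivedCategory.Qh

/-- `F` sends the comparison with a K-injective resolution to an isomorphism. -/
def IsGood (X : HomotopyCategory A (ComplexShape.up ℤ)) : Prop :=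
  IsIso ((mapD F).map ((KInj.resAdj A).unit.app X))

theorem good_iff [(mapD F).HasRightDerivedFunctor (HomotopyCategory.quasiIso A (ComplexShape.up ℤ))]
    (X : HomotopyCategory A (ComplexShape.up ℤ)) :
    IsGood F X ↔ IsIso (((mapD F).totalRightDerivedUnit DerivedCategory.Qh
      (HomotopyCategory.quasiIso A (ComplexShape.up ℤ))).app X) := by
  rw [IsGood, ← KInj.totalRightDerivedUnit_iso_hom (mapD F) X]
  exact isIso_comp_right_iff _ _

theorem good_of_rightOrthogonal {X : HomotopyCategory A (ComplexShape.up ℤ)}
    (hX : (HomotopyCategory.subcategoryAcyclic A).rightOrthogonal X) : IsGood F X := by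
  have := KInj.isIso_unit_of_rightOrthogonal hX
  exact inferInstanceAs (IsIso ((mapD F).map _))

theorem good_iff_of_isIso {X Y : HomotopyCategory A (ComplexShape.up ℤ)} (s : X ⟶ Y)
    [IsIso (DerivedCategory.Qh.map s)] [IsIso ((mapD F).map s)] : IsGood F X ↔ IsGood F Y := by
  have e : (mapD F).map ((KInj.resAdj A).unit.app X) ≫
      (mapD F).map ((KInj.res A).map (DerivedCategory.Qh.map s)) =
      (mapD F).map s ≫ (mapD F).map ((KInj.resAdj A).unit.app Y) := by
    rw [← Functor.map_comp, ← Functor.map_comp]
    exact congrArg _ ((KInj.resAdj A).unit.naturality s).symm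
  rw [IsGood, IsGood, ← isIso_comp_right_iff ((mapD F).map ((KInj.resAdj A).unit.app X))
    ((mapD F).map ((KInj.res A).map (DerivedCategory.Qh.map s))), e, isIso_comp_left_iff]

/-- The third object of a triangle is good if the first two are. -/
theorem good₃ (T : Triangle (HomotopyCategory A (ComplexShape.up ℤ)))
    (hT : T ∈ distTriang _) (h₁ : IsGood F T.obj₁) (h₂ : IsGood F T.obj₂) : IsGood F T.obj₃ := by
  obtain ⟨L, g', δ', hT'⟩ := distinguished_cocone_triangle
    ((KInj.res A).map (DerivedCategory.Qh.map T.mor₁))
  let T' := Triangle.mk ((KInj.res A).map (DerivedCategory.Qh.map T.mor₁)) g' δ'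
  obtain ⟨γ, hγ₁, hγ₂⟩ := complete_distinguished_triangle_morphism T T' hT hT'
    ((KInj.resAdj A).unit.app T.obj₁) ((KInj.resAdj A).unit.app T.obj₂)
    ((KInj.resAdj A).unit.naturality T.mor₁)
  let φ : T ⟶ T' := Triangle.homMk _ _ ((KInj.resAdj A).unit.app T.obj₁)
    ((KInj.resAdj A).unit.app T.obj₂) γ ((KInj.resAdj A).unit.naturality T.mor₁) hγ₁ hγ₂
  have hL : (HomotopyCategory.subcategoryAcyclic A).rightOrthogonal L :=
    ObjectProperty.ext_of_isTriangulatedClosed₃ _ T' hT' (KInj.rightOrthogonal_res _)
      (KInj.rightOrthogonal_res _)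
  have hQ : ∀ X, IsIso (DerivedCategory.Qh.map ((KInj.resAdj A).unit.app X)) := fun X => by
    have : IsIso (DerivedCategory.Qh.map ((KInj.resAdj A).unit.app X) ≫
        (KInj.resAdj A).counit.app (DerivedCategory.Qh.obj X)) := by
      rw [show DerivedCategory.Qh.map ((KInj.resAdj A).unit.app X) ≫ _ = 𝟙 _ from
        (KInj.resAdj A).left_triangle_components X]
      infer_instance
    exact IsIso.of_isIso_comp_right _ ((KInj.resAdj A).counit.app _)
  have : IsIso (DerivedCategory.Qh.map γ) :=
    isIso₃_of_isIso₁₂ (DerivedCategory.Qh.mapTriangle.map φ)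
      (DerivedCategory.Qh.map_distinguished T hT) (DerivedCategory.Qh.map_distinguished T' hT')
      (hQ _) (hQ _)
  have : IsIso ((mapD F).map γ) :=
    isIso₃_of_isIso₁₂ ((mapD F).mapTriangle.map φ)
      ((mapD F).map_distinguished T hT) ((mapD F).map_distinguished T' hT') h₁ h₂
  exact (good_iff_of_isIso F γ).2 (good_of_rightOrthogonal F hL)

/-- Bounded below complexes of acyclic objects are good. -/
theorem good_of_isStrictlyGE [PreservesFiniteLimits F] (K : CochainComplex A ℤ) (a : ℤ) [K.IsStrictlyGE a]
    (hK : ∀ (m : ℤ) (i : ℕ), 0 < i → IsZero ((F.rightDerived i).obj (K.X m))) :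
    IsGood F ((HomotopyCategory.quotient A (ComplexShape.up ℤ)).obj K) := by
  obtain ⟨L, hL, i, hi⟩ := CochainComplex.Plus.exists_quasiIso_injective
    (⟨K, a, inferInstance⟩ : CochainComplex.Plus A) a
  let M := (InjectiveObject.ι A).mapCochainComplexPlus.obj L
  have : QuasiIso i.hom := hi
  have : M.obj.IsStrictlyGE a :=
    inferInstanceAs (CochainComplex.IsStrictlyGE
      (((InjectiveObject.ι A).mapHomologicalComplex (ComplexShape.up ℤ)).obj L.obj) a)
  have hM : ∀ n, Injective (M.obj.X n) := fun n =>
    inferInstanceAs (Injective ((InjectiveObject.ι A).obj (L.obj.X n)))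
  have : M.obj.IsKInjective := CochainComplex.isKInjective_of_injective M.obj a
  have hq := GrothLib.GrothSS.quasiIso_map F i.hom a (fun m k => hK m (k + 1) (by omega))
    (fun m => by
      have := hM m
      exact GrothLib.GrothSS.isAcyclicObj_of_injective F _)
  have : IsIso (DerivedCategory.Qh.map ((HomotopyCategory.quotient A (ComplexShape.up ℤ)).map i.hom)) :=
    (NatIso.isIso_map_iff (DerivedCategory.quotientCompQhIso A) i.hom).2 inferInstance
  have : IsIso ((mapD F).map ((HomotopyCategory.quotient A (ComplexShape.up ℤ)).map i.hom)) :=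
    (NatIso.isIso_map_iff (DerivedCategory.quotientCompQhIso B)
      ((F.mapHomologicalComplex (ComplexShape.up ℤ)).map i.hom)).2 inferInstance
  exact (good_iff_of_isIso F ((HomotopyCategory.quotient A (ComplexShape.up ℤ)).map i.hom)).2
    (good_of_rightOrthogonal F (CochainComplex.IsKInjective.rightOrthogonal M.obj))

end GrothLib.CohDer19.Good

namespace GrothLib.CohDer19

/-- A natural transformation is invertible at the point of a colimit cocone preserved on both sides
if it is invertible on the diagram. -/
theorem isIso_app_pt {C : Type u} [Category.{v} C] {D : Type u'} [Category.{v'} D] {J : Type w}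
    [Category.{w'} J] {K : J ⥤ C} {c : Cocone K} {G G' : C ⥤ D} (τ : G ⟶ G')
    (hG : IsColimit (G.mapCocone c)) (hG' : IsColimit (G'.mapCocone c))
    (h : ∀ j, IsIso (τ.app (K.obj j))) : IsIso (τ.app c.pt) := by
  have : IsIso (Functor.whiskerLeft K τ) := by
    have : ∀ j, IsIso ((Functor.whiskerLeft K τ).app j) := h
    exact NatIso.isIso_of_isIso_app _
  have e : τ.app c.pt = (hG.coconePointsIsoOfNatIso hG' (asIso (Functor.whiskerLeft K τ))).hom :=
    hG.hom_ext fun j => by
      rw [IsColimit.comp_coconePointsIsoOfNatIso_hom]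
      exact τ.naturality _
  rw [e]
  infer_instance

variable {A : Type u} [Category.{v} A] [Abelian A] {B : Type u'} [Category.{v'} B] [Abelian B]
  (F : A ⥤ B) [F.Additive]

/-- An additive functor preserving filtered colimits preserves coproducts. -/
theorem preservesColimitsOfShape_discrete {α : Type w} [HasColimitsOfShape (Finset (Discrete α)) A]
    [HasColimitsOfShape (Discrete α) A] [PreservesColimitsOfShape (Finset (Discrete α)) F] :
    PreservesColimitsOfShape (Discrete α) F := by
  have : ∀ f : α → A, PreservesColimit (Discrete.functor f) F := fun f => by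
    have : PreservesFiniteCoproducts F := inferInstance
    let T := CoproductsFromFiniteFiltered.finiteSubcoproductsCocone f
    have hT : IsColimit (F.mapCocone T) :=
      isColimitOfPreserves F (CoproductsFromFiniteFiltered.isColimitFiniteSubproductsCocone f)
    have hS : ∀ S : Finset (Discrete α), IsColimit (Cofan.mk (F.obj (∐ fun s : S => f s.1.as))
        fun s => F.map (Sigma.ι (fun s : S => f s.1.as) s)) := fun S =>
      isColimitOfHasCoproductOfPreservesColimit F _
    have fac : ∀ (S : Finset (Discrete α)) (s : S),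
        F.map (Sigma.ι (fun s : S => f s.1.as) s) ≫ F.map (T.ι.app S) = F.map (Sigma.ι f s.1.as) := by
      exact fun S s => (F.map_comp _ _).symm.trans (congrArg F.map (Sigma.ι_desc _ _))
    have hext : ∀ {W : B} (g g' : F.obj (∐ f) ⟶ W),
        (∀ n, F.map (Sigma.ι f n) ≫ g = F.map (Sigma.ι f n) ≫ g') → g = g' := fun g g' h =>
      hT.hom_ext fun S => Cofan.IsColimit.hom_ext (hS S) _ _ fun s => by
        change F.map (Sigma.ι (fun s : S => f s.1.as) s) ≫ F.map (T.ι.app S) ≫ g =
          F.map (Sigma.ι (fun s : S => f s.1.as) s) ≫ F.map (T.ι.app S) ≫ g'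
        exact (((Category.assoc _ _ _).symm.trans (congrArg (· ≫ g) (fac S s))).trans
          (h _)).trans ((congrArg (· ≫ g') (fac S s)).symm.trans (Category.assoc _ _ _))
    refine preservesColimit_of_preserves_colimit_cocone (coproductIsCoproduct f)
      ((isColimitMapCoconeCofanMkEquiv _ _ _).symm ?_)
    have ex : ∀ s : Cofan fun n => F.obj (f n), ∃ g : F.obj (∐ f) ⟶ s.pt,
        ∀ n, F.map (Sigma.ι f n) ≫ g = s.inj n := by
      intro s
      let d : ∀ S : Finset (Discrete α), F.obj (∐ fun t : S => f t.1.as) ⟶ s.pt := fun S =>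
        Cofan.IsColimit.desc (hS S) fun t => s.inj t.1.as
      have hd : ∀ (S : Finset (Discrete α)) (t : S),
          F.map (Sigma.ι (fun t : S => f t.1.as) t) ≫ d S = s.inj t.1.as := fun S t =>
        Cofan.IsColimit.fac (hS S) _ t
      refine ⟨hT.desc (Cocone.mk s.pt
        { app := d
          naturality := fun S S' φ => Cofan.IsColimit.hom_ext (hS S) _ _ fun t => ?_ }), fun n => ?_⟩
      · change F.map (Sigma.ι (fun t : S => f t.1.as) t) ≫ F.map _ ≫ d S' =
          F.map (Sigma.ι (fun t : S => f t.1.as) t) ≫ d S ≫ 𝟙 _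
        refine ((Category.assoc _ _ _).symm.trans ((congrArg (· ≫ d S') ?_).trans
          (hd S' ⟨t.1, φ.down.down t.2⟩))).trans
          ((congrArg (fun z => F.map _ ≫ z) (Category.comp_id _)).trans (hd S t)).symm
        exact (F.map_comp _ _).symm.trans (congrArg F.map (Sigma.ι_desc _ _))
      · exact ((congrArg (fun z => z ≫ _) (fac {⟨n⟩} ⟨⟨n⟩, Finset.mem_singleton_self _⟩).symm).trans
          (Category.assoc _ _ _)).trans ((congrArg (fun z => F.map _ ≫ z) (hT.fac _ _)).trans (hd _ _))
    exact Cofan.IsColimit.mk _ (fun s => (ex s).choose) (fun s n => (ex s).choose_spec n)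
      fun s m hm => hext _ _ fun n => (hm n).trans ((ex s).choose_spec n).symm
  exact preservesColimitsOfShape_of_discrete F

/-- Termwise application of a functor preserving coproducts preserves coproducts of complexes. -/
theorem preservesColimitsOfShape_mapHomologicalComplex {α : Type w} [HasColimitsOfShape (Discrete α) A]
    [HasColimitsOfShape (Discrete α) B] [PreservesColimitsOfShape (Discrete α) F]
    {ι : Type*} (c : ComplexShape ι) :
    PreservesColimitsOfShape (Discrete α) (F.mapHomologicalComplex c) :=
  ⟨fun {_} => ⟨fun {s} hs => ⟨HomologicalComplex.isColimitOfEval _ _ fun i =>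
    show IsColimit (F.mapCocone ((HomologicalComplex.eval A c i).mapCocone s)) from
      isColimitOfPreserves F (isColimitOfPreserves (HomologicalComplex.eval A c i) hs)⟩⟩⟩

end GrothLib.CohDer19
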