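import Mathlib.Algebra.Homology.DerivedCategory.KInjective
import Mathlib.Algebra.Homology.DerivedCategory.DerivabilityStructureInjectives
import Mathlib.Algebra.Homology.DerivedCategory.TStructure
import Mathlib.Algebra.Homology.SingleHomology

/-!
Injective amplitude in terms of morphisms out of objects placed in one degree.
-/

set_option autoImplicit false
universe w v u
open CategoryTheory CategoryTheory.Limits

namespace GrothLib.CohDer19.InjAmp

variable {C : Type u} [Category.{v} C] [Abelian C] [HasDerivedCategory.{w} C]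

open DerivedCategory

/-- Morphisms into a K-injective complex come from morphisms of complexes. -/
theorem exists_lift {P L : CochainComplex C ℤ} [L.IsKInjective] (g : Q.obj P ⟶ Q.obj L) :
    ∃ f : P ⟶ L, Q.map f = g := by
  let eA := quotientCompQhIso C
  obtain ⟨f, hf⟩ := (CochainComplex.IsKInjective.Qh_map_bijective
    ((HomotopyCategory.quotient _ _).obj P) L).2 ((eA.app P).hom ≫ g ≫ (eA.app L).inv)
  obtain ⟨f, rfl⟩ := (HomotopyCategory.quotient _ _).map_surjective f
  refine ⟨f, ?_⟩
  have h := eA.hom.naturality f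
  simp only [Functor.comp_map] at h
  rw [← cancel_epi (eA.hom.app P), ← h, hf]
  simp

/-- `Q (single i Y) ≅ (Y[0])⟦-i⟧`. -/
noncomputable def singleShiftIso (Y : C) (i : ℤ) :
    Q.obj ((CochainComplex.singleFunctor C i).obj Y) ≅ ((singleFunctor C 0).obj Y)⟦-i⟧ :=
  (((SingleFunctors.evaluation _ _ i).mapIso (singleFunctorsPostcompQIso C)).app Y).symm ≪≫
    (((singleFunctors C).shiftIso (-i) i 0 (by omega)).app Y).symm

/-- Vanishing of `Hom(Y[0], X[i])` is vanishing of `Hom(Y[-i], X)`. -/
theorem hom_shift_eq_zero_iff (X : DerivedCategory C) (Y : C) (i : ℤ) :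
    (∀ φ : (singleFunctor C 0).obj Y ⟶ X⟦i⟧, φ = 0) ↔
      ∀ ψ : Q.obj ((CochainComplex.singleFunctor C i).obj Y) ⟶ X, ψ = 0 := by
  let e : ((singleFunctor C 0).obj Y ⟶ X⟦i⟧) ≃
      (Q.obj ((CochainComplex.singleFunctor C i).obj Y) ⟶ X) :=
    (((shiftEquiv' (DerivedCategory C) (-i) i (neg_add_cancel i)).toAdjunction.homEquiv _ X).symm).trans
      (Iso.homFromEquiv (singleShiftIso Y i).symm)
  constructor
  · intro h ψ
    haveI : Subsingleton ((singleFunctor C 0).obj Y ⟶ X⟦i⟧) :=
      ⟨fun a b => (h a).trans (h b).symm⟩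
    exact @Subsingleton.elim _ e.symm.subsingleton _ _
  · intro h φ
    haveI : Subsingleton (Q.obj ((CochainComplex.singleFunctor C i).obj Y) ⟶ X) :=
      ⟨fun a b => (h a).trans (h b).symm⟩
    exact @Subsingleton.elim _ e.subsingleton _ _

/-- If all morphisms out of objects placed in degree `i` vanish, the cohomology vanishes. -/
theorem exactAt_of_hom_eq_zero (K : CochainComplex C ℤ) (i : ℤ)
    (h : ∀ (Y : C) (ψ : Q.obj ((CochainComplex.singleFunctor C i).obj Y) ⟶ Q.obj K), ψ = 0) :
    K.ExactAt i := by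
  let Z := K.cycles i
  let g : (HomologicalComplex.single C (ComplexShape.up ℤ) i).obj Z ⟶ K :=
    HomologicalComplex.mkHomFromSingle (K.iCycles i) (fun k _ => K.iCycles_d i k)
  have hg : HomologicalComplex.homologyMap g i = 0 := by
    have h0 : Q.map g = 0 := h Z (Q.map g)
    have := NatIso.naturality_1 (homologyFunctorFactors C i) g
    rw [Functor.comp_map, h0, Functor.map_zero, zero_comp, comp_zero] at this
    exact this.symm
  have hc : (HomologicalComplex.singleObjCyclesSelfIso (ComplexShape.up ℤ) i Z).inv ≫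
      HomologicalComplex.cyclesMap g i = 𝟙 Z := by
    rw [← cancel_mono (K.iCycles i), Category.assoc, HomologicalComplex.cyclesMap_i,
      HomologicalComplex.singleObjCyclesSelfIso_inv_iCycles_assoc]
    simp [g, Z]
  rw [HomologicalComplex.exactAt_iff_isZero_homology]
  refine IsZero.of_epi_eq_zero (K.homologyπ i) ?_
  rw [← Category.id_comp (K.homologyπ i), ← hc, Category.assoc,
    ← HomologicalComplex.homologyπ_naturality, hg]
  simp

/-- Morphisms from an object in degree `i` to a K-injective complex. -/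
theorem hom_eq_zero_iff (L : CochainComplex C ℤ) [L.IsKInjective] (i : ℤ) (Y : C) :
    (∀ ψ : Q.obj ((CochainComplex.singleFunctor C i).obj Y) ⟶ Q.obj L, ψ = 0) ↔
      ∀ c : Y ⟶ L.X i, c ≫ L.d i (i + 1) = 0 →
        ∃ h : Y ⟶ L.X (i - 1), h ≫ L.d (i - 1) i = c := by
  let S : CochainComplex C ℤ := (HomologicalComplex.single C (ComplexShape.up ℤ) i).obj Y
  let η := HomologicalComplex.singleObjXSelf (ComplexShape.up ℤ) i Y
  have hd : S.d i (i + 1) = 0 := HomologicalComplex.single_obj_d _ _ _ _ _
  constructor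
  · intro hs c hc
    let φ : S ⟶ L := HomologicalComplex.mkHomFromSingle c fun k hk => by
      obtain rfl : i + 1 = k := hk
      exact hc
    obtain ⟨hh⟩ : Nonempty (Homotopy φ 0) := by
      refine ⟨HomotopyCategory.homotopyOfEq _ _
        ((CochainComplex.IsKInjective.Qh_map_bijective _ L).1 ?_)⟩
      let eA := quotientCompQhIso C
      have hu := eA.hom.naturality φ
      have hv := eA.hom.naturality (0 : S ⟶ L)
      rw [show Q.map φ = Q.map (0 : S ⟶ L) from (hs _).trans (Q.map_zero _ _).symm] at hu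
      exact (cancel_mono (eA.hom.app L)).1 (hu.trans hv.symm)
    have hcomm := hh.comm i
    rw [dNext_eq _ (show (ComplexShape.up ℤ).Rel i (i + 1) from rfl),
      prevD_eq _ (show (ComplexShape.up ℤ).Rel (i - 1) i from by simp),
      hd, zero_comp, zero_add, HomologicalComplex.zero_f, add_zero] at hcomm
    refine ⟨η.inv ≫ hh.hom i (i - 1), ?_⟩
    have hf' : φ.f i = η.hom ≫ c := HomologicalComplex.mkHomFromSingle_f _ _
    rw [Category.assoc, ← hcomm, hf', Iso.inv_hom_id_assoc]
  · intro h ξ
    obtain ⟨φ, rfl⟩ := exists_lift (P := S) ξ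
    obtain ⟨k, hk⟩ := h (η.inv ≫ φ.f i) (by
      rw [Category.assoc, φ.comm, hd, zero_comp, comp_zero])
    let hom : ∀ p q, (ComplexShape.up ℤ).Rel q p → (S.X p ⟶ L.X q) := fun p q hqp =>
      if hp : p = i then
        eqToHom (congrArg S.X hp) ≫ η.hom ≫ k ≫
          eqToHom (congrArg L.X (show i - 1 = q by simp only [ComplexShape.up_Rel] at hqp; omega))
      else 0
    have hnull : φ = Homotopy.nullHomotopicMap' hom := by
      refine HomologicalComplex.from_single_hom_ext ?_
      rw [Homotopy.nullHomotopicMap'_f (show (ComplexShape.up ℤ).Rel (i - 1) i from by simp)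
        (show (ComplexShape.up ℤ).Rel i (i + 1) from rfl), hd, zero_comp, zero_add]
      simp only [hom, dif_pos, eqToHom_refl, Category.id_comp, Category.comp_id, Category.assoc,
        hk]
      exact (Iso.hom_inv_id_assoc _ _).symm
    rw [hnull, DerivedCategory.Q_map_eq_of_homotopy _ (Homotopy.nullHomotopy' hom), Functor.map_zero]
    rfl

/-- If the complex splits above `b`, its canonical truncation has injective terms. -/
theorem injective_truncLE (L : CochainComplex C ℤ) (hL : ∀ n, Injective (L.X n)) (b : ℤ)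
    (h : ∃ t : L.cycles (b + 1) ⟶ L.X b, t ≫ L.d b (b + 1) = L.iCycles (b + 1)) (n : ℤ) :
    Injective ((L.truncLE b).X n) := by
  rcases lt_trichotomy n b with hn | rfl | hn
  · exact Injective.of_iso (L.truncLEXIso b n hn).symm (hL n)
  · obtain ⟨t, ht⟩ := h
    let r : L.X n ⟶ L.cycles n :=
      L.liftCycles (𝟙 _ - L.toCycles n (n + 1) ≫ t) (n + 1) (by simp) (by
        rw [Preadditive.sub_comp, Category.id_comp, Category.assoc, ht, L.toCycles_i, sub_self])
    have hr : L.iCycles n ≫ r = 𝟙 _ := by
      rw [← cancel_mono (L.iCycles n)]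
      have : L.iCycles n ≫ L.toCycles n (n + 1) = 0 := by
        rw [← cancel_mono (L.iCycles (n + 1))]
        simp
      simp [r, reassoc_of% this]
    have := hL n
    have : Injective (L.cycles n) :=
      ⟨fun g f => ⟨Injective.factorThru (g ≫ L.iCycles n) f ≫ r, by
        rw [Injective.comp_factorThru_assoc, Category.assoc, hr, Category.comp_id]⟩⟩
    exact Injective.of_iso (L.truncLEXIsoCycles n).symm inferInstance
  · exact ((L.truncLE b).isZero_of_isStrictlyLE b n hn).injective

/-- A complex of injectives `≥ a` with vanishing morphisms from degree `> b` is equivalent to one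
in `[a, b]`. -/
theorem truncation (M : CochainComplex C ℤ) (a b : ℤ) [M.IsStrictlyGE a]
    (hM : ∀ n, Injective (M.X n))
    (h : ∀ (Y : C) (i : ℤ), b < i →
      ∀ ψ : Q.obj ((CochainComplex.singleFunctor C i).obj Y) ⟶ Q.obj M, ψ = 0) :
    (M.truncLE b).IsStrictlyGE a ∧ (∀ n, Injective ((M.truncLE b).X n)) ∧
      QuasiIso (M.ιTruncLE b) := by
  have : M.IsKInjective := CochainComplex.isKInjective_of_injective M a
  have : M.IsLE b := (M.isLE_iff b).2 fun i hi => exactAt_of_hom_eq_zero M i fun Y => h Y i hi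
  refine ⟨inferInstance, injective_truncLE M hM b ?_, inferInstance⟩
  obtain ⟨t, ht⟩ := (hom_eq_zero_iff M (b + 1) _).1 (h (M.cycles (b + 1)) (b + 1) (by omega))
    (M.iCycles (b + 1)) (M.iCycles_d _ _)
  refine ⟨t ≫ eqToHom (congrArg M.X (by omega : b + 1 - 1 = b)), ?_⟩
  rw [Category.assoc, ← ht]
  congr 1
  have : ∀ (p q : ℤ) (e : p = q), eqToHom (congrArg M.X e) ≫ M.d q (b + 1) = M.d p (b + 1) := by
    rintro p q rfl; simp
  exact this _ _ (by omega)

/-- Every object `≥ a` is represented by a complex of injectives `≥ a`. -/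
theorem exists_injective_rep [EnoughInjectives C] (X : DerivedCategory C) (a : ℤ) [X.IsGE a] :
    ∃ M : CochainComplex C ℤ, M.IsStrictlyGE a ∧ (∀ n, Injective (M.X n)) ∧
      Nonempty (Q.obj M ≅ X) := by
  obtain ⟨Y, hY, ⟨eY⟩⟩ := DerivedCategory.exists_iso_Q_obj_of_isGE X a
  obtain ⟨L, hL, i, hi⟩ := CochainComplex.Plus.exists_quasiIso_injective (C := C) ⟨Y, a, hY⟩ a
  let I : CochainComplex C ℤ :=
    ((InjectiveObject.ι C).mapHomologicalComplex (.up ℤ)).obj L.obj
  haveI : I.IsStrictlyGE a :=
    (CochainComplex.isStrictlyGE_mapHomologicalComplex_obj_iff _ (InjectiveObject.ι _) _).2 hL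
  haveI : QuasiIso i.hom := hi
  exact ⟨I, inferInstance, fun n => (L.obj.X n).property,
    ⟨(asIso (Q.map i.hom)).symm ≪≫ eY.symm⟩⟩

end GrothLib.CohDer19.InjAmp
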