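import Groth.Agent.Lib.KInj.Adjoint
import Mathlib.Algebra.Homology.DerivedCategory.RightDerivedFunctorPlus
import Mathlib.CategoryTheory.Functor.Derived.Adjunction
import Mathlib.CategoryTheory.Adjunction.Restrict

/-!
Derived adjunctions of an exact left adjoint: bounded below (enough injectives) and unbounded
(K-injective resolutions on the target of the left adjoint).
-/

set_option autoImplicit false
universe w w' v v' v'' u u' u''

open CategoryTheory CategoryTheory.Limits

namespace GrothLib.CohDer19.DerAdj

section General

variable {C : Type*} [Category C] {D : Type*} [Category D] {E : Type*} [Category E]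
  {X : Type*} [Category X]

/-- A functor extending `F` along a localization functor, up to isomorphism, is a right Kan
extension of `F`. -/
theorem isRightKanExtension_of_iso (L : C ⥤ D) (W : MorphismProperty C) [L.IsLocalization W]
    {F : C ⥤ X} (G : D ⥤ X) (α : L ⋙ G ⟶ F) [IsIso α] : G.IsRightKanExtension α :=
  let hf := Localization.fullyFaithfulWhiskeringLeft L W X
  ⟨⟨IsTerminal.ofUniqueHom
    (fun Y => CostructuredArrow.homMk (hf.preimage (X := Y.left) (Y := G) (Y.hom ≫ inv α))
      (by
        change Functor.whiskerLeft L (hf.preimage (X := Y.left) (Y := G) (Y.hom ≫ inv α)) ≫ α = _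
        rw [show Functor.whiskerLeft L (hf.preimage (X := Y.left) (Y := G) (Y.hom ≫ inv α)) =
          Y.hom ≫ inv α from hf.map_preimage _, Category.assoc, IsIso.inv_hom_id]
        exact Category.comp_id _))
    (fun Y m => by
      apply CostructuredArrow.hom_ext
      suffices H : ∀ t : Y.left ⟶ G, Functor.whiskerLeft L t ≫ α = Y.hom →
          t = hf.preimage (X := Y.left) (Y := G) (Y.hom ≫ inv α) from
        H m.left (CostructuredArrow.w m)
      intro t ht
      refine hf.map_injective ((Eq.trans ?_ (hf.map_preimage _).symm))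
      show Functor.whiskerLeft L t = _
      rw [← ht, Category.assoc, IsIso.hom_inv_id, Category.comp_id])⟩⟩

variable (P : C ⥤ D) (L : D ⥤ E) {L' : C ⥤ E} (e : P ⋙ L ≅ L') {H : D ⥤ X} {R : E ⥤ X}
  (η : H ⟶ L ⋙ R) {F₀ : C ⥤ X} (f : F₀ ≅ P ⋙ H)

/-- The unit of an extension along a composite. -/
def compUnit : F₀ ⟶ L' ⋙ R :=
  f.hom ≫ Functor.whiskerLeft P η ≫ (Functor.associator _ _ _).inv ≫
    Functor.whiskerRight e.hom R

lemma compUnit_app (x : C) :
    (compUnit P L e η f).app x = f.hom.app x ≫ η.app (P.obj x) ≫ R.map (e.hom.app x) := by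
  simp [compUnit]

/-- Left Kan extensions compose with localizations. -/
theorem isLeftKanExtension_comp_localization (W : MorphismProperty C) [P.IsLocalization W]
    [R.IsLeftKanExtension η] : R.IsLeftKanExtension (compUnit P L e η f) :=
  let hf := Localization.fullyFaithfulWhiskeringLeft P W X
  let pre (Y : Functor.LeftExtension L' F₀) : H ⟶ L ⋙ Y.right :=
    hf.preimage (X := H) (Y := L ⋙ Y.right)
      (f.inv ≫ Y.hom ≫ Functor.whiskerRight e.inv Y.right ≫ (Functor.associator _ _ _).hom)
  ⟨⟨IsInitial.ofUniqueHom
    (fun Y => StructuredArrow.homMk (R.descOfIsLeftKanExtension η Y.right (pre Y))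
      (by
        apply NatTrans.ext
        funext x
        have h₁ := R.descOfIsLeftKanExtension_fac_app η Y.right (pre Y) (P.obj x)
        have h₂ : (pre Y).app (P.obj x) =
            f.inv.app x ≫ Y.hom.app x ≫ Y.right.map (e.inv.app x) := by
          have h : Functor.whiskerLeft P (pre Y) = _ := hf.map_preimage _
          have h' := NatTrans.congr_app h x
          simp at h'
          exact h'
        change (compUnit P L e η f).app x ≫
          (R.descOfIsLeftKanExtension η Y.right (pre Y)).app (L'.obj x) = Y.hom.app x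
        rw [compUnit_app, Category.assoc, Category.assoc, NatTrans.naturality, reassoc_of% h₁, h₂]
        simp only [Category.assoc]
        rw [← Y.right.map_comp, Iso.inv_hom_id_app, CategoryTheory.Functor.map_id]
        simp))
    (fun Y m => by
      apply StructuredArrow.hom_ext
      apply R.hom_ext_of_isLeftKanExtension η
      refine Eq.trans ?_ (R.descOfIsLeftKanExtension_fac η Y.right (pre Y)).symm
      apply hf.map_injective
      show Functor.whiskerLeft P (η ≫ Functor.whiskerLeft L m.right) =
        Functor.whiskerLeft P (pre Y)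
      rw [show Functor.whiskerLeft P (pre Y) = _ from hf.map_preimage _]
      apply NatTrans.ext
      funext x
      suffices key : ∀ t : R ⟶ Y.right,
          (compUnit P L e η f).app x ≫ t.app (L'.obj x) = Y.hom.app x →
          η.app (P.obj x) ≫ t.app (L.obj (P.obj x)) =
            f.inv.app x ≫ Y.hom.app x ≫ Y.right.map (e.inv.app x) ≫ 𝟙 _ from
        key m.right (NatTrans.congr_app (StructuredArrow.w m) x)
      intro t w
      have hm : R.map (e.hom.app x) ≫ t.app (L'.obj x) ≫ Y.right.map (e.inv.app x) =
          t.app (L.obj (P.obj x)) := by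
        rw [← t.naturality, ← R.map_comp_assoc, Iso.hom_inv_id_app, CategoryTheory.Functor.map_id]
        exact Category.id_comp _
      rw [Category.comp_id, ← w, compUnit_app]
      simp only [Category.assoc]
      erw [hm]
      erw [← NatTrans.comp_app_assoc f.inv f.hom x, Iso.inv_hom_id, NatTrans.id_app, Category.id_comp])⟩⟩

end General

section Unbounded

variable {A : Type u} [Category.{v} A] [Abelian A] {B : Type u'} [Category.{v'} B] [Abelian B]
  [IsGrothendieckAbelian.{v'} B] [HasDerivedCategory.{w} A] [HasDerivedCategory.{w'} B]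
  {F : A ⥤ B} {G : B ⥤ A} (adj : F ⊣ G) [F.Additive] [G.Additive]
  [PreservesFiniteLimits F] [PreservesFiniteColimits F]

include adj in
/-- The derived adjunction, right adjoint computed by K-injective resolutions. -/
theorem nonempty_adj_res :
    Nonempty (F.mapDerivedCategory ⊣
      KInj.res B ⋙ G.mapHomotopyCategory (ComplexShape.up ℤ) ⋙ DerivedCategory.Qh) := by
  let H := G.mapHomotopyCategory (ComplexShape.up ℤ) ⋙ DerivedCategory.Qh
  let WA := HomotopyCategory.quasiIso A (ComplexShape.up ℤ)
  let WB := HomotopyCategory.quasiIso B (ComplexShape.up ℤ)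
  let F' := KInj.res B ⋙ H
  let α := F.mapDerivedCategoryFactorsh.hom
  let β := KInj.derUnit H
  have : F.mapDerivedCategory.IsLeftDerivedFunctor α WA :=
    ⟨isRightKanExtension_of_iso _ WA _ α⟩
  have : IsIso ((Functor.associator _ _ _).inv ≫ Functor.whiskerRight α F') := inferInstance
  have : (F.mapDerivedCategory ⋙ F').IsLeftDerivedFunctor
      ((Functor.associator _ _ _).inv ≫ Functor.whiskerRight α F') WA :=
    ⟨isRightKanExtension_of_iso _ WA _ _⟩
  have : (F' ⋙ F.mapDerivedCategory).IsRightDerivedFunctor
      (Functor.whiskerRight β F.mapDerivedCategory ≫ (Functor.associator _ _ _).hom) WB := by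
    refine (Functor.isRightDerivedFunctor_iff_of_iso (KInj.derUnit (H ⋙ F.mapDerivedCategory)) _ _
      (Functor.associator _ _ _).symm ?_).1 inferInstance
    ext K
    simp [KInj.derUnit, β, H]
  exact ⟨Adjunction.derived (KInj.mapHomotopyAdj adj) WA WB α β⟩

include adj in
/-- The derived adjunction with any right derived functor on complexes. -/
theorem nonempty_adj (RG : DerivedCategory B ⥤ DerivedCategory A)
    (α : G.mapHomologicalComplex (ComplexShape.up ℤ) ⋙ DerivedCategory.Q ⟶
      DerivedCategory.Q ⋙ RG)
    [RG.IsRightDerivedFunctor α (HomologicalComplex.quasiIso B (ComplexShape.up ℤ))] :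
    Nonempty (F.mapDerivedCategory ⊣ RG) := by
  obtain ⟨a⟩ := nonempty_adj_res adj
  let H := G.mapHomotopyCategory (ComplexShape.up ℤ) ⋙ DerivedCategory.Qh
  let P := HomotopyCategory.quotient B (ComplexShape.up ℤ)
  have := Functor.IsRightDerivedFunctor.isLeftKanExtension (RF := KInj.res B ⋙ H)
    (KInj.derUnit H) (HomotopyCategory.quasiIso B (ComplexShape.up ℤ))
  let f : G.mapHomologicalComplex (ComplexShape.up ℤ) ⋙ DerivedCategory.Q ≅ P ⋙ H :=
    Functor.isoWhiskerLeft _ (DerivedCategory.quotientCompQhIso A).symm ≪≫
      (Functor.associator _ _ _).symm ≪≫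
      Functor.isoWhiskerRight (G.mapHomotopyCategoryFactors (ComplexShape.up ℤ)).symm _ ≪≫
      Functor.associator _ _ _
  let u := compUnit P DerivedCategory.Qh (DerivedCategory.quotientCompQhIso B) (KInj.derUnit H) f
  have : (KInj.res B ⋙ H).IsRightDerivedFunctor u
      (HomologicalComplex.quasiIso B (ComplexShape.up ℤ)) :=
    ⟨isLeftKanExtension_comp_localization P DerivedCategory.Qh
      (DerivedCategory.quotientCompQhIso B) (KInj.derUnit H) f
      (HomologicalComplex.homotopyEquivalences B (ComplexShape.up ℤ))⟩
  exact ⟨a.ofNatIsoRight (Functor.rightDerivedUnique _ _ u α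
    (HomologicalComplex.quasiIso B (ComplexShape.up ℤ)))⟩

end Unbounded

section Plus

variable {A : Type u} [Category.{v} A] [Abelian A] {B : Type u'} [Category.{v'} B] [Abelian B]
  [HasDerivedCategory.{w} A] [HasDerivedCategory.{w'} B] [EnoughInjectives A] [EnoughInjectives B]
  {L : A ⥤ B} {R : B ⥤ A} (adj : L ⊣ R) [L.Additive] [R.Additive]
  [PreservesFiniteLimits L] [PreservesFiniteColimits L]

/-- An adjunction induces one on bounded below homotopy categories. -/
noncomputable def mapHomotopyPlusAdj : L.mapHomotopyCategoryPlus ⊣ R.mapHomotopyCategoryPlus :=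
  Adjunction.restrictFullyFaithful (iC := HomotopyCategory.Plus.ι A)
    (iD := HomotopyCategory.Plus.ι B) (KInj.mapHomotopyAdj adj)
    (HomotopyCategory.Plus.fullyFaithfulι A) (HomotopyCategory.Plus.fullyFaithfulι B)
    (Iso.refl _) (Iso.refl _)

include adj in
/-- The bounded below derived adjunction. -/
theorem nonempty_adj_plus : Nonempty (L.rightDerivedFunctorPlus ⊣ R.rightDerivedFunctorPlus) := by
  let WA := HomotopyCategory.Plus.quasiIso A
  let WB := HomotopyCategory.Plus.quasiIso B
  have hinv : WA.IsInvertedBy (L.mapHomotopyCategoryPlus ⋙ DerivedCategory.Plus.Qh) := by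
    intro K K' f hf
    refine Localization.inverts DerivedCategory.Plus.Qh WB _ ?_
    obtain ⟨K, rfl⟩ := HomotopyCategory.Plus.quotient_obj_surjective K
    obtain ⟨K', rfl⟩ := HomotopyCategory.Plus.quotient_obj_surjective K'
    obtain ⟨f, rfl⟩ := (HomotopyCategory.Plus.quotient A).map_surjective f
    change HomotopyCategory.quasiIso A _ ((HomotopyCategory.quotient A _).map f.hom) at hf
    rw [HomotopyCategory.quotient_map_mem_quasiIso_iff, HomologicalComplex.mem_quasiIso_iff] at hf
    change HomotopyCategory.quasiIso B _ ((HomotopyCategory.quotient B _).map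
      ((L.mapHomologicalComplex _).map f.hom))
    rw [HomotopyCategory.quotient_map_mem_quasiIso_iff, HomologicalComplex.mem_quasiIso_iff]
    infer_instance
  have := Functor.isIso_of_isRightDerivedFunctor_of_inverts L.rightDerivedFunctorPlus
    L.rightDerivedFunctorPlusUnit hinv
  let α := inv L.rightDerivedFunctorPlusUnit
  let β := R.rightDerivedFunctorPlusUnit
  have : L.rightDerivedFunctorPlus.IsLeftDerivedFunctor α WA :=
    ⟨isRightKanExtension_of_iso _ WA _ α⟩
  have : (L.rightDerivedFunctorPlus ⋙ R.rightDerivedFunctorPlus).IsLeftDerivedFunctor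
      ((Functor.associator _ _ _).inv ≫ Functor.whiskerRight α R.rightDerivedFunctorPlus) WA :=
    ⟨isRightKanExtension_of_iso _ WA _ _⟩
  have : (R.rightDerivedFunctorPlus ⋙ L.rightDerivedFunctorPlus).IsRightDerivedFunctor
      (Functor.whiskerRight β L.rightDerivedFunctorPlus ≫ (Functor.associator _ _ _).hom) WB := by
    refine (HomotopyCategory.Plus.localizerMorphism_derives _).isRightDerivedFunctor_of_isIso _
      fun K => ?_
    simp only [NatTrans.comp_app, Functor.whiskerRight_app, Functor.associator_hom_app,
      Category.comp_id]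
    infer_instance
  exact ⟨Adjunction.derived (mapHomotopyPlusAdj adj) WA WB α β⟩

end Plus

end GrothLib.CohDer19.DerAdj
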