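import Groth.Agent.Lib.CohDer19.Unit
import Groth.Agent.Lib.GrothSS.Acyclic

/-!
A class adapted to an additive functor consists of right acyclic objects.
-/

set_option autoImplicit false
universe w w' v v' u u'
open CategoryTheory CategoryTheory.Limits
open GrothLib.GrothSS (zSC zSC_shortExact)

namespace GrothLib.CohDer19.Adapted

variable {A : Type u} [Category.{v} A] [Abelian A]
  {B : Type u'} [Category.{v'} B] [Abelian B] (F : A ⥤ B) [F.Additive]

/-- A retract of a short exact sequence is short exact. -/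
lemma shortExact_of_retract {T T' : ShortComplex B} (i : T ⟶ T') (p : T' ⟶ T) (h : i ≫ p = 𝟙 T)
    (hT : T'.ShortExact) : T.ShortExact where
  exact := by
    rw [ShortComplex.exact_iff_isZero_homology, IsZero.iff_id_eq_zero,
      ← ShortComplex.homologyMap_id, ← h, ShortComplex.homologyMap_comp,
      ((ShortComplex.exact_iff_isZero_homology _).1 hT.exact).eq_of_tgt (ShortComplex.homologyMap i) 0,
      zero_comp]
  mono_f := by
    have := hT.mono_f
    have h₁ : i.τ₁ ≫ p.τ₁ = 𝟙 _ := by rw [← ShortComplex.comp_τ₁, h]; rfl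
    have : Mono i.τ₁ := (SplitMono.mk p.τ₁ h₁).mono
    have : Mono (T.f ≫ i.τ₂) := by rw [← i.comm₁₂]; infer_instance
    exact mono_of_mono T.f i.τ₂
  epi_g := by
    have := hT.epi_g
    have h₃ : i.τ₃ ≫ p.τ₃ = 𝟙 _ := by rw [← ShortComplex.comp_τ₃, h]; rfl
    have : Epi p.τ₃ := (SplitEpi.mk i.τ₃ h₃).epi
    have : Epi (p.τ₂ ≫ T.g) := by rw [p.comm₂₃]; infer_instance
    exact epi_of_epi p.τ₂ T.g

variable (I : ObjectProperty A)
  (h1 : ∀ X : A, ∃ (Y : A) (ι : X ⟶ Y), I Y ∧ Mono ι)
  (h2 : ∀ S : ShortComplex A, S.ShortExact → I S.X₁ → I S.X₂ → I S.X₃ ∧ (S.map F).ShortExact)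

/-- Retracts of objects of `I`. -/
def Good (X : A) : Prop := ∃ (Y : A) (s : X ⟶ Y) (r : Y ⟶ X), I Y ∧ s ≫ r = 𝟙 X

variable {I}

lemma good_of_iso {X X' : A} (e : X ≅ X') (h : Good I X) : Good I X' := by
  obtain ⟨Y, s, r, hY, hsr⟩ := h
  exact ⟨Y, e.inv ≫ s, r ≫ e.hom, hY, by simp [reassoc_of% hsr]⟩

include h1 in
lemma good_of_injective (J : A) [Injective J] : Good I J := by
  obtain ⟨Y, ι, hY, hι⟩ := h1 J
  exact ⟨Y, ι, Injective.factorThru (𝟙 J) ι, hY, Injective.comp_factorThru _ _⟩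

include h1 h2 in
lemma step [EnoughInjectives A] (T : ShortComplex A) (hT : T.ShortExact) (hX : Good I T.X₁)
    [Injective T.X₂] : Good I T.X₃ ∧ (T.map F).ShortExact := by
  obtain ⟨X', s, r, hX', hsr⟩ := hX
  have := hT.mono_f
  let m : X' ⟶ T.X₂ ⊞ Injective.under X' := biprod.lift (r ≫ T.f) (Injective.ι X')
  have : Mono (m ≫ biprod.snd) := by simp only [m, biprod.lift_snd]; infer_instance
  have : Mono m := mono_of_mono m biprod.snd
  obtain ⟨Y, j, hY, hj⟩ := h1 (T.X₂ ⊞ Injective.under X')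
  let h : Y ⟶ T.X₂ ⊞ Injective.under X' := Injective.factorThru (𝟙 _) j
  have hjh : j ≫ h = 𝟙 _ := Injective.comp_factorThru _ _
  let k : T.X₂ ⟶ Injective.under X' := Injective.factorThru (s ≫ Injective.ι X') T.f
  have hk : T.f ≫ k = s ≫ Injective.ι X' := Injective.comp_factorThru _ _
  let T' : ShortComplex A := ShortComplex.mk (m ≫ j) (cokernel.π (m ≫ j)) (cokernel.condition _)
  have hT' : T'.ShortExact := { exact := ShortComplex.exact_cokernel _ }
  obtain ⟨hR, hF⟩ := h2 T' hT' hX' hY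
  let b : T.X₂ ⟶ Y := biprod.lift (𝟙 _) k ≫ j
  let c : Y ⟶ T.X₂ := h ≫ biprod.fst
  have hb : T.f ≫ b = s ≫ m ≫ j := by
    simp only [b, ← Category.assoc]
    congr 1
    apply biprod.hom_ext <;> simp [m, hk, reassoc_of% hsr]
  have hc : (m ≫ j) ≫ c = r ≫ T.f := by
    simp [c, reassoc_of% hjh, m]
  have hbc : b ≫ c = 𝟙 _ := by simp [b, c, reassoc_of% hjh]
  obtain ⟨b₃, hb₃⟩ := CokernelCofork.IsColimit.desc' hT.gIsCokernel (b ≫ cokernel.π (m ≫ j)) (by
    rw [reassoc_of% hb, ← Category.assoc m j, cokernel.condition, comp_zero])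
  change T.g ≫ b₃ = b ≫ cokernel.π (m ≫ j) at hb₃
  let c₃ : T'.X₃ ⟶ T.X₃ := cokernel.desc (m ≫ j) (c ≫ T.g) (by
    rw [← Category.assoc, hc, Category.assoc, T.zero, comp_zero])
  let i : T ⟶ T' := { τ₁ := s, τ₂ := b, τ₃ := b₃, comm₁₂ := hb.symm, comm₂₃ := hb₃.symm }
  let p : T' ⟶ T :=
    { τ₁ := r, τ₂ := c, τ₃ := c₃, comm₁₂ := hc.symm
      comm₂₃ := (cokernel.π_desc _ _ _).symm }
  have h₃ : b₃ ≫ c₃ = 𝟙 _ := by
    have := hT.epi_g
    rw [← cancel_epi T.g, reassoc_of% hb₃]
    simp [c₃, reassoc_of% hbc]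
  have hip : i ≫ p = 𝟙 T := by
    apply ShortComplex.hom_ext
    · exact hsr
    · exact hbc
    · exact h₃
  refine ⟨⟨_, b₃, c₃, hR, h₃⟩, ?_⟩
  exact shortExact_of_retract (F.mapShortComplex.map i) (F.mapShortComplex.map p)
    (((F.mapShortComplex.map_comp i p).symm.trans (congrArg F.mapShortComplex.map hip)).trans
      (F.mapShortComplex.map_id T)) hF

lemma step_zero (T : ShortComplex A) (hT : T.ShortExact) (h₁ : IsZero T.X₁)
    (h₂ : Good I T.X₂) : Good I T.X₃ ∧ (T.map F).ShortExact := by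
  have := hT.epi_g
  have : Mono T.g := hT.exact.mono_g (h₁.eq_of_src _ _)
  have := isIso_of_mono_of_epi T.g
  refine ⟨good_of_iso (asIso T.g) h₂, ?_⟩
  exact (ShortComplex.Splitting.mk (S := T) 0 (inv T.g) (h₁.eq_of_src _ _) (IsIso.inv_hom_id _)
    (by simp)).map F |>.shortExact

include h1 h2 in
/-- `F` preserves acyclicity of bounded below complexes with good bottom and injective terms
above. -/
theorem acyclic_map [EnoughInjectives A] (L : CochainComplex A ℤ) (a : ℤ) [L.IsStrictlyGE a]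
    (hL : L.Acyclic) (ha : Good I (L.X a)) (hinj : ∀ i, a < i → Injective (L.X i)) :
    ((F.mapHomologicalComplex (ComplexShape.up ℤ)).obj L).Acyclic := by
  have hgood : ∀ i, Good I (L.X i) := by
    intro i
    rcases lt_trichotomy i a with h | rfl | h
    · have hz := L.isZero_of_isStrictlyGE a i h
      have : Injective (L.X i) := hz.injective
      exact good_of_injective h1 _
    · exact ha
    · have := hinj i h
      exact good_of_injective h1 _
  have hz : ∀ i j, i + 1 = j → i ≤ a → IsZero (kernel (L.d i j)) := by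
    intro i j hij hi
    have hz := L.isZero_of_isStrictlyGE a (i - 1) (by omega)
    have hex := (L.exactAt_iff' (i - 1) i j (by simp) (by simp; omega)).1 (hL i)
    have : Mono (L.d i j) := hex.mono_g (hz.eq_of_src _ _)
    rw [IsZero.iff_id_eq_zero, ← cancel_mono (kernel.ι (L.d i j)), ← cancel_mono (L.d i j)]
    simp
  have key : ∀ (n : ℕ) (i j k : ℤ), i ≤ a + n → i + 1 = j → j + 1 = k →
      Good I (kernel (L.d j k)) ∧ ((zSC L i j k).map F).ShortExact := by
    intro n
    induction n with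
    | zero =>
      intro i j k hi hj hk
      exact step_zero F _ (zSC_shortExact L hL i j k hj hk) (hz i j hj (by omega)) (hgood i)
    | succ n ih =>
      intro i j k hi hj hk
      by_cases h : i ≤ a + n
      · exact ih i j k h hj hk
      · have : Injective (zSC L i j k).X₂ := hinj i (by omega)
        exact step F h1 h2 _ (zSC_shortExact L hL i j k hj hk)
          (ih (i - 1) i j (by omega) (by omega) hj).1
  have hS : ∀ i j k : ℤ, i + 1 = j → j + 1 = k → ((zSC L i j k).map F).ShortExact :=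
    fun i j k hj hk => (key (i - a).toNat i j k (by omega) hj hk).2
  intro j
  rw [HomologicalComplex.exactAt_iff' _ (j - 1) j (j + 1) (by simp) (by simp)]
  have h₀ := (hS (j - 1) j (j + 1) (by omega) rfl).epi_g
  have h₁ := hS j (j + 1) (j + 2) rfl (by omega)
  have h₂ := (hS (j + 1) (j + 2) (j + 3) (by omega) (by omega)).mono_f
  let T : ShortComplex B := ShortComplex.mk (F.map (L.d (j - 1) j))
    (F.map (zSC L j (j + 1) (j + 2)).g) (by
      rw [← F.map_comp]
      convert F.map_zero _ _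
      rw [← cancel_mono (kernel.ι (L.d (j + 1) (j + 2)))]
      simp)
  let φ : T ⟶ (zSC L j (j + 1) (j + 2)).map F :=
    { τ₁ := F.map (zSC L (j - 1) j (j + 1)).g
      τ₂ := 𝟙 _
      τ₃ := 𝟙 _
      comm₁₂ := (F.map_comp _ _).symm.trans
        ((congrArg F.map (kernel.lift_ι _ _ _)).trans (Category.comp_id _).symm)
      comm₂₃ := (Category.id_comp _).trans (Category.comp_id _).symm }
  let ψ : T ⟶ ((F.mapHomologicalComplex _).obj L).sc' (j - 1) j (j + 1) :=
    { τ₁ := 𝟙 _
      τ₂ := 𝟙 _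
      τ₃ := F.map (zSC L (j + 1) (j + 2) (j + 3)).f
      comm₁₂ := (Category.id_comp _).trans (Category.comp_id _).symm
      comm₂₃ := (Category.id_comp _).trans
        ((congrArg F.map (kernel.lift_ι _ _ _)).symm.trans (F.map_comp _ _)) }
  have : Epi φ.τ₁ := h₀
  have : IsIso φ.τ₂ := inferInstanceAs (IsIso (𝟙 _))
  have : Mono φ.τ₃ := inferInstanceAs (Mono (𝟙 _))
  have : Epi ψ.τ₁ := inferInstanceAs (Epi (𝟙 _))
  have : IsIso ψ.τ₂ := inferInstanceAs (IsIso (𝟙 _))
  have : Mono ψ.τ₃ := h₂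
  exact (ShortComplex.exact_iff_of_epi_of_isIso_of_mono ψ).1
    ((ShortComplex.exact_iff_of_epi_of_isIso_of_mono φ).2 h₁.exact)

include h1 h2 in
/-- Objects of an adapted class are right acyclic. -/
theorem isIso_unit [EnoughInjectives A] [HasDerivedCategory.{w} A] [HasDerivedCategory.{w'} B]
    (X : A) (hX : I X) :
    IsIso (F.rightDerivedFunctorPlusUnit.app ((HomotopyCategory.Plus.singleFunctor A 0).obj X)) := by
  let J := injectiveResolution X
  rw [isIso_unit_single_iff, ← quasiIso_map_resolution_iff F J,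
    ← HomologicalComplex.quasiIso_extendMap_iff _ ComplexShape.embeddingUpNat]
  let f : ((CochainComplex.single₀ A).obj X).extend ComplexShape.embeddingUpNat ⟶ J.cochainComplex :=
    HomologicalComplex.extendMap J.ι ComplexShape.embeddingUpNat
  have : QuasiIso f := (HomologicalComplex.quasiIso_extendMap_iff _ _).2 inferInstance
  suffices QuasiIso ((F.mapHomologicalComplex (ComplexShape.up ℤ)).map f) from
    (quasiIso_iff_of_arrow_mk_iso _ _ (Arrow.isoMk
      (GrothLib.BCCoh.mapExtendIso ComplexShape.embeddingUpNat F _)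
      (GrothLib.BCCoh.mapExtendIso ComplexShape.embeddingUpNat F _)
      (GrothLib.BCCoh.mapExtendIso_natural' ComplexShape.embeddingUpNat F _ J.ι).symm)).1 this
  let S : CochainComplex A ℤ := ((CochainComplex.single₀ A).obj X).extend ComplexShape.embeddingUpNat
  let eS : S ≅ (CochainComplex.singleFunctor A 0).obj X :=
    HomologicalComplex.extendSingleIso ComplexShape.embeddingUpNat X 0 0 rfl
  have : S.IsStrictlyGE 0 := CochainComplex.isStrictlyGE_of_iso eS.symm 0
  have hS : ∀ n : ℤ, n ≠ 0 → IsZero (S.X n) := fun n hn =>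
    (HomologicalComplex.isZero_single_obj_X (ComplexShape.up ℤ) 0 X n hn).of_iso
      ((HomologicalComplex.eval _ _ n).mapIso eS)
  rw [DerCat.quasiIso_iff_acyclic_mappingCone]
  refine DerCat.acyclic_of_iso (CochainComplex.mappingCone.mapHomologicalComplexIso f F) ?_
  have := CochainComplex.isStrictlyGE_mappingCone f 0 0 (-1)
  refine acyclic_map F h1 h2 _ (-1) ((DerCat.quasiIso_iff_acyclic_mappingCone f).1 inferInstance)
    ?_ fun i hi => ?_
  · have e₁ : (CochainComplex.mappingCone f).X (-1) ≅ S.X 0 ⊞ J.cochainComplex.X (-1) :=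
      HomologicalComplex.homotopyCofiber.XIsoBiprod f (-1) 0 (by simp)
    have e₂ : S.X 0 ⊞ J.cochainComplex.X (-1) ≅ S.X 0 :=
      ((isoBiprodZero (J.cochainComplex.isZero_of_isStrictlyGE 0 (-1) (by omega)))).symm
    have e₃ : S.X 0 ≅ X := (HomologicalComplex.eval _ _ 0).mapIso eS ≪≫
      HomologicalComplex.singleObjXSelf (ComplexShape.up ℤ) 0 X
    exact good_of_iso (e₁ ≪≫ e₂ ≪≫ e₃).symm ⟨X, 𝟙 X, 𝟙 X, hX, by simp⟩
  · have : Injective (S.X (i + 1)) := (hS (i + 1) (by omega)).injective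
    exact Injective.of_iso
      (HomologicalComplex.homotopyCofiber.XIsoBiprod f i (i + 1) (by simp)).symm inferInstance

end GrothLib.CohDer19.Adapted
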