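import Groth.Agent.Lib.CohDer19.Hull
import Mathlib.Algebra.Homology.Augment
import Mathlib.Algebra.Homology.SingleHomology
import Mathlib.CategoryTheory.ObjectProperty.ClosedUnderIsomorphisms
import Mathlib.Algebra.Homology.DerivedCategory.Basic

/-!
Resolutions of unbounded complexes by a class of objects of finite dimension.
-/

set_option autoImplicit false
set_option backward.isDefEq.respectTransparency false
set_option backward.defeqAttrib.useBackward true
universe v u
open CategoryTheory CategoryTheory.Limits CochainComplex CochainComplex.HomComplex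
open scoped ZeroObject

namespace GrothLib.CohDer19.ClassUnb

variable {A : Type u} [Category.{v} A] [Abelian A]

/-- Quasi-isomorphisms induced on cocones. -/
lemma quasiIso_coconeMap {K L K' L' : CochainComplex A ℤ} {φ : K ⟶ L} {φ' : K' ⟶ L'}
    (a : K ⟶ K') (b : L ⟶ L') (comm : φ ≫ b = a ≫ φ') [QuasiIso a] [QuasiIso b] :
    QuasiIso (Hull.coconeMap a b comm) := by
  let := HasDerivedCategory.standard A
  have h : IsIso (DerivedCategory.Q.map (mappingCone.map φ φ' a b comm)) :=
    Pretriangulated.isIso₃_of_isIso₁₂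
      (DerivedCategory.Q.mapTriangle.map (mappingCone.triangleMap φ φ' a b comm))
      (DerivedCategory.mappingCone_triangle_distinguished φ)
      (DerivedCategory.mappingCone_triangle_distinguished φ')
      (inferInstanceAs (IsIso (DerivedCategory.Q.map a)))
      (inferInstanceAs (IsIso (DerivedCategory.Q.map b)))
  rw [← DerivedCategory.isIso_Q_map_iff_quasiIso]
  exact (NatIso.isIso_map_iff (DerivedCategory.Q.commShiftIso (-1 : ℤ))
    (mappingCone.map φ φ' a b comm)).2
    (inferInstanceAs (IsIso ((CategoryTheory.shiftFunctor _ (-1 : ℤ)).map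
      (DerivedCategory.Q.map (mappingCone.map φ φ' a b comm)))))

/-- The terms of a mapping cocone. -/
noncomputable def coconeXIso {K L : CochainComplex A ℤ} (φ : K ⟶ L) (n : ℤ) :
    (mappingCocone φ).X n ≅ K.X n ⊞ L.X (n + -1) where
  hom := biprod.lift ((mappingCocone.fst φ).f n) ((mappingCocone.snd φ).v n (n + -1) rfl)
  inv := biprod.desc ((mappingCocone.inl φ).v n n (add_zero n))
    ((mappingCocone.inr φ).1.v (n + -1) n (by lia))
  hom_inv_id := by simp [mappingCocone.id_X]
  inv_hom_id := by ext <;> simp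

section Closure

variable {P : ObjectProperty A}
  (h2 : ∀ S : ShortComplex A, S.ShortExact → P S.X₁ → (P S.X₂ ↔ P S.X₃))

include h2 in
lemma prop_zero {X Z : A} (hX : P X) (hZ : IsZero Z) : P Z := by
  let S := ShortComplex.mk (𝟙 X) (0 : X ⟶ Z) comp_zero
  have hS : S.ShortExact :=
    { exact := (S.exact_iff_epi rfl).2 (inferInstanceAs (Epi (𝟙 X)))
      mono_f := inferInstanceAs (Mono (𝟙 X))
      epi_g := ⟨fun _ _ _ => hZ.eq_of_src _ _⟩ }
  exact (h2 S hS hX).1 hX

include h2 in
lemma prop_iso {X Y : A} (e : X ≅ Y) (hX : P X) : P Y := by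
  let S := ShortComplex.mk e.hom (0 : Y ⟶ (0 : A)) comp_zero
  have hS : S.ShortExact :=
    { exact := (S.exact_iff_epi rfl).2 (inferInstanceAs (Epi e.hom))
      mono_f := inferInstanceAs (Mono e.hom)
      epi_g := ⟨fun _ _ _ => (isZero_zero A).eq_of_src _ _⟩ }
  exact (h2 S hS hX).2 (prop_zero h2 hX (isZero_zero A))

include h2 in
lemma prop_biprod {X Y : A} (hX : P X) (hY : P Y) : P (X ⊞ Y) :=
  (h2 _ (ShortComplex.Splitting.ofHasBinaryBiproduct X Y).shortExact hX).2 hY

end Closure

section Env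

variable (Y : A → A) (u : ∀ X, X ⟶ Y X)

/-- The zero differential complex with terms `Y (M^n)`. -/
@[simps]
noncomputable def zeroDiff (M : CochainComplex A ℤ) : CochainComplex A ℤ where
  X n := Y (M.X n)
  d _ _ := 0

/-- A contractible complex into which `M` embeds. -/
noncomputable abbrev env (M : CochainComplex A ℤ) : CochainComplex A ℤ :=
  mappingCone (𝟙 (zeroDiff Y M))

/-- The embedding. -/
noncomputable def envι (M : CochainComplex A ℤ) : M ⟶ env Y M :=
  mappingCone.lift _
    (Cocycle.mk (Cochain.mk (fun p q _ => M.d p q ≫ u _)) 2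
      (by lia) (by
        ext p q hpq
        simp [δ_v 1 2 (by lia) _ p q hpq (p + 1) (p + 1) (by lia) rfl]))
    (Cochain.ofHoms (fun n => u (M.X n))) (by
      ext p q hpq
      simp [δ_v 0 1 (by lia) _ p q hpq (q - 1) (p + 1) (by lia) rfl])

variable [∀ X, Mono (u X)]

instance mono_envι_f (M : CochainComplex A ℤ) (n : ℤ) : Mono ((envι Y u M).f n) :=
  have h : (envι Y u M).f n ≫ (mappingCone.snd (𝟙 (zeroDiff Y M))).v n n (add_zero n) =
      u (M.X n) := by simp [envι]
  have := mono_of_mono_fac h; this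

/-- The short exact sequence of the embedding. -/
noncomputable abbrev envSC (M : CochainComplex A ℤ) : ShortComplex (CochainComplex A ℤ) :=
  ShortComplex.mk (envι Y u M) (cokernel.π (envι Y u M)) (cokernel.condition _)

lemma envSC_shortExact (M : CochainComplex A ℤ) : (envSC Y u M).ShortExact :=
  { exact := ShortComplex.exact_of_g_is_cokernel _ (cokernelIsCokernel _)
    mono_f := HomologicalComplex.mono_of_mono_f _ fun n => mono_envι_f Y u M n }

/-- The iterated cokernels. -/
noncomputable def iter : ℕ → CochainComplex A ℤ → CochainComplex A ℤ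
  | 0, M => M
  | k + 1, M => iter k (cokernel (envι Y u M))

variable {P : ObjectProperty A}
  (h2 : ∀ S : ShortComplex A, S.ShortExact → P S.X₁ → (P S.X₂ ↔ P S.X₃))
  (hY : ∀ X, P (Y X))

include h2 hY in
lemma prop_env (M : CochainComplex A ℤ) (n : ℤ) : P ((env Y M).X n) :=
  prop_iso h2 (HomologicalComplex.homotopyCofiber.XIsoBiprod (𝟙 (zeroDiff Y M)) n (n + 1) rfl).symm
    (prop_biprod h2 (hY _) (hY _))

include h2 hY in
/-- The exact sequence of the iterated cokernels in a fixed degree. -/
lemma exists_chain (m : ℤ) : ∀ (k : ℕ) (M : CochainComplex A ℤ),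
    ∃ (K : CochainComplex A ℕ) (ε : M.X m ⟶ K.X 0) (w : ε ≫ K.d 0 1 = 0),
      Mono ε ∧ (ShortComplex.mk ε (K.d 0 1) w).Exact ∧ (∀ i, 1 ≤ i → K.ExactAt i) ∧
      (∀ i, k < i → IsZero (K.X i)) ∧ (∀ i, i < k → P (K.X i)) ∧
      Nonempty (K.X k ≅ (iter Y u k M).X m) := by
  intro k
  induction k with
  | zero =>
    intro M
    refine ⟨(CochainComplex.single₀ A).obj (M.X m), 𝟙 _, by simp, inferInstanceAs (Mono (𝟙 _)),
      (ShortComplex.exact_iff_epi _ (by simp)).2 (show Epi (𝟙 (M.X m)) from inferInstance), fun i hi => ?_,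
      fun i hi => HomologicalComplex.isZero_single_obj_X _ _ _ _ (by omega),
      fun i hi => absurd hi (by omega), ⟨Iso.refl _⟩⟩
    obtain ⟨j, rfl⟩ : ∃ j, i = j + 1 := ⟨i - 1, by omega⟩
    exact CochainComplex.exactAt_succ_single_obj _ _
  | succ k ih =>
    intro M
    obtain ⟨K, ε, w, hε, hex, hK, hz, hP, ⟨e⟩⟩ := ih (cokernel (envι Y u M))
    have hS := (envSC_shortExact Y u M).map_of_exact (HomologicalComplex.eval A (ComplexShape.up ℤ) m)
    let ψ : (env Y M).X m ⟶ K.X 0 := (cokernel.π (envι Y u M)).f m ≫ ε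
    have hz0 : (envι Y u M).f m ≫ (cokernel.π (envι Y u M)).f m = 0 := by
      rw [← HomologicalComplex.comp_f, cokernel.condition]; rfl
    refine ⟨CochainComplex.augment K ψ (by simp [ψ, w]), (envι Y u M).f m,
      ((Category.assoc _ _ _).symm.trans (congrArg (· ≫ ε) hz0)).trans zero_comp, inferInstance, ?_, ?_, ?_, ?_, ⟨e⟩⟩
    · rw [ShortComplex.exact_iff_exact_up_to_refinements]
      intro B x hx
      change x ≫ ψ = 0 at hx
      have hx' : x ≫ (cokernel.π (envι Y u M)).f m = 0 := by
        refine (cancel_mono ε).1 ?_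
        exact ((Category.assoc _ _ _).trans hx).trans zero_comp.symm
      exact hS.exact.exact_up_to_refinements x hx'
    · intro i hi
      rcases i with _ | _ | i
      · omega
      · rw [HomologicalComplex.exactAt_iff' _ 0 1 2 (by simp) (by simp),
          ShortComplex.exact_iff_exact_up_to_refinements]
        intro B x hx
        change x ≫ K.d 0 1 = 0 at hx
        obtain ⟨B₁, π₁, hπ₁, y, hy⟩ := hex.exact_up_to_refinements x hx
        have : Epi ((cokernel.π (envι Y u M)).f m) := hS.epi_g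
        obtain ⟨B₂, π₂, hπ₂, z, hz⟩ :=
          surjective_up_to_refinements_of_epi ((cokernel.π (envι Y u M)).f m) y
        refine ⟨B₂, π₂ ≫ π₁, inferInstance, z, ?_⟩
        show (π₂ ≫ π₁) ≫ x = z ≫ ((cokernel.π (envι Y u M)).f m ≫ ε)
        exact (Category.assoc _ _ _).trans ((congrArg (π₂ ≫ ·) hy).trans
          ((Category.assoc _ _ _).symm.trans
            ((congrArg (· ≫ ε) hz).trans (Category.assoc _ _ _))))
      · have h := hK (i + 1) (by omega)
        rw [HomologicalComplex.exactAt_iff' _ i (i + 1) (i + 2) (by simp) (by simp)] at h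
        rw [HomologicalComplex.exactAt_iff' _ (i + 1) (i + 2) (i + 3) (by simp) (by simp)]
        exact h
    · intro i hi
      obtain ⟨j, rfl⟩ : ∃ j, i = j + 1 := ⟨i - 1, by omega⟩
      exact hz j (by omega)
    · intro i hi
      rcases i with _ | i
      · exact prop_env Y h2 hY M m
      · exact hP i (by omega)

include h2 hY in
/-- A finite resolution. -/
lemma exists_res : ∀ (k : ℕ) (M : CochainComplex A ℤ), (∀ m, P ((iter Y u k M).X m)) →
    ∃ (I : CochainComplex A ℤ) (f : M ⟶ I), QuasiIso f ∧ ∀ m, P (I.X m) := by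
  intro k
  induction k with
  | zero => exact fun M h => ⟨M, 𝟙 M, inferInstance, h⟩
  | succ k ih =>
    intro M h
    obtain ⟨J, g, hg, hJ⟩ := ih _ h
    have hw : cokernel.π (envι Y u M) ≫ g = 𝟙 _ ≫ (cokernel.π (envι Y u M) ≫ g) :=
      (Category.id_comp _).symm
    have := quasiIso_coconeMap (𝟙 (env Y M)) g hw
    have := Hull.quasiIso_lift (cokernel.condition (envι Y u M)) (envSC_shortExact Y u M)
    refine ⟨mappingCocone (cokernel.π (envι Y u M) ≫ g),
      mappingCocone.lift _ (envι Y u M) 0 _ ≫ Hull.coconeMap (𝟙 (env Y M)) g hw,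
      quasiIso_comp _ _, fun n => ?_⟩
    exact prop_iso h2 (coconeXIso _ n).symm (prop_biprod h2 (prop_env Y h2 hY M n) (hJ _))

end Env

/-- Resolution of an unbounded complex by a class of objects of finite dimension. -/
theorem exists_quasiIso (P : ObjectProperty A)
    (h1 : ∀ X : A, ∃ (Y : A) (i : X ⟶ Y), P Y ∧ Mono i)
    (h2 : ∀ S : ShortComplex A, S.ShortExact → P S.X₁ → (P S.X₂ ↔ P S.X₃))
    (n : ℕ) (hn : 1 ≤ n)
    (h3 : ∀ K : CochainComplex A ℕ, (∀ i : ℕ, 1 ≤ i → i ≤ n → K.ExactAt i) →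
      (∀ i : ℕ, n < i → IsZero (K.X i)) → Epi (K.d (n - 1) n) →
      (∀ i : ℕ, i < n → P (K.X i)) → P (K.X n))
    (M : CochainComplex A ℤ) :
    ∃ (I : CochainComplex A ℤ) (f : M ⟶ I), QuasiIso f ∧ ∀ k : ℤ, P (I.X k) := by
  choose Y u hY hu using h1
  refine exists_res Y u h2 hY n M fun m => ?_
  obtain ⟨K, ε, w, -, -, hK, hz, hP, ⟨e⟩⟩ := exists_chain Y u h2 hY m n M
  refine prop_iso h2 e (h3 K (fun i hi _ => hK i hi) hz ?_ hP)
  have h := hK n hn
  rw [HomologicalComplex.exactAt_iff' _ (n - 1) n (n + 1)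
    (ComplexShape.prev_eq' _ (by simp only [ComplexShape.up_Rel]; omega)) (by simp)] at h
  exact h.epi_f ((hz (n + 1) (by omega)).eq_of_tgt _ _)

end GrothLib.CohDer19.ClassUnb
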