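import Groth.Agent.Lib.CohDer19.RightDer
import Groth.Agent.Lib.CohDer19.ClassUnb
import Groth.Agent.Lib.GrothSS.Acyclic

/-!
Unbounded derived functors of left exact functors of finite cohomological dimension.
-/

set_option autoImplicit false
universe w w' v v' u u'
open CategoryTheory CategoryTheory.Limits
open GrothLib.HomGamma GrothLib.GrothSS

namespace GrothLib.CohDer19.CohDim

variable {A : Type u} [Category.{v} A] [Abelian A] [EnoughInjectives A]
  {B : Type u'} [Category.{v'} B] [Abelian B] (F : A ⥤ B) [F.Additive] [PreservesFiniteLimits F]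

/-- The objects which are acyclic. -/
def acyclicObj : ObjectProperty A := fun X => IsAcyclicObj F X

/-- Vanishing propagates to higher degrees. -/
theorem isZero_of_ge (n : ℕ) (hn : ∀ X : A, IsZero ((F.rightDerived n).obj X)) :
    ∀ (i : ℕ), n ≤ i → ∀ X : A, IsZero ((F.rightDerived i).obj X) := by
  intro i hi
  induction hi with
  | refl => exact hn
  | @step i _ ih =>
    intro X
    let T : ShortComplex A := ShortComplex.mk (Injective.ι X) (cokernel.π _) (cokernel.condition _)
    have hT : T.ShortExact := { exact := ShortComplex.exact_cokernel _ }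
    have : Injective T.X₂ := inferInstanceAs (Injective (Injective.under X))
    rcases i with _ | k
    · refine IsZero.of_iso ?_ (shiftIsoOne hT F)
      have h0 : IsZero (F.obj T.X₃) := (ih T.X₃).of_iso (F.rightDerivedZeroIsoSelf.app T.X₃).symm
      exact IsZero.of_epi_eq_zero (cokernel.π (F.map T.g)) (h0.eq_of_src _ _)
    · exact (ih T.X₃).of_iso (shiftIso hT F k)

variable (N : ℕ) (hN : ∀ (i : ℕ), N + 1 ≤ i → ∀ X : A, IsZero ((F.rightDerived i).obj X))

include hN in
/-- The dimension property of the acyclic objects. -/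
theorem acyclic_last (K : CochainComplex A ℕ)
    (hex : ∀ i : ℕ, 1 ≤ i → i ≤ N + 1 → K.ExactAt i) (hz : ∀ i : ℕ, N + 1 < i → IsZero (K.X i))
    (hK : ∀ i : ℕ, i < N + 1 → IsAcyclicObj F (K.X i)) : IsAcyclicObj F (K.X (N + 1)) := by
  have key : ∀ j : ℕ, j ≤ N + 1 → ∀ k : ℕ, N + 1 ≤ k + 1 + j →
      IsZero ((F.rightDerived (k + 1)).obj (kernel (K.d j (j + 1)))) := by
    intro j
    induction j with
    | zero => exact fun _ k hk => hN _ (by omega) _
    | succ j ih =>
      intro hj k hk
      let T : ShortComplex A := ShortComplex.mk (kernel.ι (K.d j (j + 1)))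
        (kernel.lift (K.d (j + 1) (j + 2)) (K.d j (j + 1)) (K.d_comp_d _ _ _)) (by ext; simp)
      have h := hex (j + 1) (by omega) hj
      rw [HomologicalComplex.exactAt_iff' _ j (j + 1) (j + 2) (by simp) (by simp)] at h
      have : Epi T.g := h.epi_kernelLift
      have hT : T.ShortExact :=
        { exact := ShortComplex.exact_of_f_is_kernel _ (KernelFork.IsLimit.ofι' _ _ fun l hl =>
            ⟨kernel.lift _ l (by simpa [T] using hl =≫ kernel.ι _), kernel.lift_ι _ _ _⟩)
          mono_f := inferInstanceAs (Mono (kernel.ι _))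
          epi_g := this }
      exact isZero_rightDerived_X₃ F k T hT (ih (by omega) (k + 1) (by omega)) (hK j (by omega) k)
  intro k
  have h0 : K.d (N + 1) (N + 1 + 1) = 0 := (hz _ (by omega)).eq_of_tgt _ _
  have : IsIso (kernel.ι (K.d (N + 1) (N + 1 + 1))) := by
    rw [← Category.id_comp (kernel.ι _)]
    exact ⟨⟨kernel.lift _ (𝟙 _) (by simp [h0]), by ext; simp, by simp⟩⟩
  exact (key (N + 1) le_rfl k (by omega)).of_iso
    ((F.rightDerived (k + 1)).mapIso (asIso (kernel.ι (K.d (N + 1) (N + 1 + 1))))).symm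

include hN in
/-- An acyclic complex of acyclic objects stays acyclic. -/
theorem acyclic_map (L : CochainComplex A ℤ) (hL : L.Acyclic) (hX : ∀ i, IsAcyclicObj F (L.X i)) :
    ((F.mapHomologicalComplex (ComplexShape.up ℤ)).obj L).Acyclic := by
  have hcyc : ∀ (m : ℕ) (i j : ℤ), i + 1 = j → ∀ k : ℕ, N + 1 ≤ k + 1 + m →
      IsZero ((F.rightDerived (k + 1)).obj (kernel (L.d i j))) := by
    intro m
    induction m with
    | zero => exact fun i j _ k hk => hN _ (by omega) _
    | succ m ih =>
      intro i j hj k hk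
      exact isZero_rightDerived_X₃ F k (zSC L (i - 1) i j)
        (zSC_shortExact L hL (i - 1) i j (by omega) hj) (ih (i - 1) i (by omega) (k + 1) (by omega))
        (hX _ k)
  have hS : ∀ i j k : ℤ, i + 1 = j → j + 1 = k → ((zSC L i j k).map F).ShortExact := fun i j k hj hk =>
    shortExact_map_of_isZero F (zSC_shortExact L hL i j k hj hk) (hcyc N i j hj 0 (by omega))
  intro j
  rw [HomologicalComplex.exactAt_iff' _ (j - 1) j (j + 1) (by simp) (by simp)]
  have h₀ := (hS (j - 1) j (j + 1) (by omega) rfl).epi_g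
  have h₁ := hS j (j + 1) (j + 2) rfl (by omega)
  have h₂ := (hS (j + 1) (j + 2) (j + 3) (by omega) (by omega)).mono_f
  let T : ShortComplex B := ShortComplex.mk (F.map (L.d (j - 1) j))
    (F.map (zSC L j (j + 1) (j + 2)).g) (by
      rw [← F.map_comp]
      convert F.map_zero _ _
      rw [← cancel_mono (kernel.ι (L.d (j + 1) (j + 2)))]
      simp)
  let φ : T ⟶ (zSC L j (j + 1) (j + 2)).map F :=
    { τ₁ := F.map (zSC L (j - 1) j (j + 1)).g
      τ₂ := 𝟙 _
      τ₃ := 𝟙 _
      comm₁₂ := (F.map_comp _ _).symm.trans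
        ((congrArg F.map (kernel.lift_ι _ _ _)).trans (Category.comp_id _).symm)
      comm₂₃ := (Category.id_comp _).trans (Category.comp_id _).symm }
  let ψ : T ⟶ ((F.mapHomologicalComplex _).obj L).sc' (j - 1) j (j + 1) :=
    { τ₁ := 𝟙 _
      τ₂ := 𝟙 _
      τ₃ := F.map (zSC L (j + 1) (j + 2) (j + 3)).f
      comm₁₂ := (Category.id_comp _).trans (Category.comp_id _).symm
      comm₂₃ := (Category.id_comp _).trans
        ((congrArg F.map (kernel.lift_ι _ _ _)).symm.trans (F.map_comp _ _)) }
  have : Epi φ.τ₁ := h₀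
  have : IsIso φ.τ₂ := inferInstanceAs (IsIso (𝟙 _))
  have : Mono φ.τ₃ := inferInstanceAs (Mono (𝟙 _))
  have : Epi ψ.τ₁ := inferInstanceAs (Epi (𝟙 _))
  have : IsIso ψ.τ₂ := inferInstanceAs (IsIso (𝟙 _))
  have : Mono ψ.τ₃ := h₂
  exact (ShortComplex.exact_iff_of_epi_of_isIso_of_mono ψ).1
    ((ShortComplex.exact_iff_of_epi_of_isIso_of_mono φ).2 h₁.exact)

include hN in
/-- Every complex maps quasi-isomorphically to a complex of acyclic objects. -/
theorem exists_res (K : CochainComplex A ℤ) :
    ∃ (I : CochainComplex A ℤ) (f : K ⟶ I), QuasiIso f ∧ ∀ k : ℤ, IsAcyclicObj F (I.X k) :=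
  ClassUnb.exists_quasiIso (acyclicObj F)
    (fun X => ⟨Injective.under X, Injective.ι X, isAcyclicObj_of_injective F _, inferInstance⟩)
    (fun S hS h => ⟨fun h₂ k => isZero_rightDerived_X₃ F k S hS (h (k + 1)) (h₂ k),
      fun h₃ k => isZero_rightDerived_X₂ F k S hS (h k) (h₃ k)⟩)
    (N + 1) (by omega) (fun M hex hz _ hM => acyclic_last F N hN M hex hz hM) K

include hN in
theorem quasiIso_map {K L : CochainComplex A ℤ} (f : K ⟶ L) [QuasiIso f]
    (hK : ∀ i, IsAcyclicObj F (K.X i)) (hL : ∀ i, IsAcyclicObj F (L.X i)) :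
    QuasiIso ((F.mapHomologicalComplex (ComplexShape.up ℤ)).map f) := by
  rw [DerCat.quasiIso_iff_acyclic_mappingCone]
  refine DerCat.acyclic_of_iso (CochainComplex.mappingCone.mapHomologicalComplexIso f F)
    (acyclic_map F N hN _ ((DerCat.quasiIso_iff_acyclic_mappingCone f).1 inferInstance) fun i => ?_)
  exact isAcyclicObj_of_iso F
    (HomologicalComplex.homotopyCofiber.XIsoBiprod f i (i + 1) (by simp)).symm
    (isAcyclicObj_biprod F (hK _) (hL _))

variable [HasDerivedCategory.{w} A] [HasDerivedCategory.{w'} B]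

include hN in
omit [HasDerivedCategory.{w} A] in
theorem resolvable :
    RightResolvable (HomotopyCategory.quasiIso A (ComplexShape.up ℤ))
      (fun X => ∀ i, IsAcyclicObj F (X.as.X i))
      (F.mapHomotopyCategory (ComplexShape.up ℤ) ⋙ DerivedCategory.Qh) where
  exists_res X := by
    obtain ⟨I, f, hf, hI⟩ := exists_res F N hN X.as
    exact ⟨(HomotopyCategory.quotient _ _).obj I, (HomotopyCategory.quotient _ _).map f, hI,
      (HomotopyCategory.quotient_map_mem_quasiIso_iff f).2
        ((HomologicalComplex.mem_quasiIso_iff f).2 hf)⟩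
  inverts X Y s hX hY hs := by
    obtain ⟨f, rfl⟩ := (HomotopyCategory.quotient A (ComplexShape.up ℤ)).map_surjective
      (X := X.as) (Y := Y.as) s
    have : QuasiIso f := (HomologicalComplex.mem_quasiIso_iff f).1
      ((HomotopyCategory.quotient_map_mem_quasiIso_iff f).1 hs)
    have := quasiIso_map F N hN f hX hY
    refine (NatIso.isIso_map_iff
      (show HomotopyCategory.quotient A (ComplexShape.up ℤ) ⋙
          (F.mapHomotopyCategory (ComplexShape.up ℤ) ⋙ DerivedCategory.Qh) ≅
        F.mapHomologicalComplex (ComplexShape.up ℤ) ⋙ DerivedCategory.Q from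
        (Functor.associator _ _ _).symm ≪≫
          Functor.isoWhiskerRight (F.mapHomotopyCategoryFactors (ComplexShape.up ℤ)) _ ≪≫
          Functor.associator _ _ _ ≪≫ Functor.isoWhiskerLeft _ (DerivedCategory.quotientCompQhIso B))
      f).2 ?_
    exact inferInstanceAs (IsIso (DerivedCategory.Q.map _))

end GrothLib.CohDer19.CohDim
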