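import Groth.Agent.Lib.CohDer19.Good
import Groth.Agent.Lib.DerCat.Stupid
import Groth.Agent.Lib.DerCat.Acyclic
import Mathlib.Algebra.Homology.HomotopyCategory.DegreewiseSplit
import Mathlib.CategoryTheory.Functor.OfSequence

/-!
Complexes of acyclic objects are good when the derived functor commutes with countable coproducts.
-/

set_option autoImplicit false
universe w w' v v' u u'
open CategoryTheory CategoryTheory.Limits Pretriangulated

namespace GrothLib.CohDer19.Good

section Seq

variable {A : Type u} [Category.{v} A] [Abelian A] (K : CochainComplex A ℤ)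

theorem isIso_sGEι_f {n i : ℤ} (h : n ≤ i) : IsIso ((DerCat.sGEι K n).f i) := by
  rw [show (DerCat.sGEι K n).f i = (DerCat.sGEXIso K h).hom from dif_pos h]
  infer_instance

/-- The inclusion of stupid truncations. -/
noncomputable def sGEincl (a b : ℤ) (h : a ≤ b) : DerCat.sGE K b ⟶ DerCat.sGE K a where
  f i := if hb : b ≤ i then (DerCat.sGEXIso K hb).hom ≫ (DerCat.sGEXIso K (h.trans hb)).inv else 0
  comm' i j (hij : i + 1 = j) := by
    by_cases hi : b ≤ i
    · rw [dif_pos hi, dif_pos (by omega : b ≤ j), DerCat.sGE_d K hi (by omega : b ≤ j),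
        DerCat.sGE_d K (h.trans hi) (by omega : a ≤ j)]
      simp
    · exact (DerCat.isZero_sGE K (by omega)).eq_of_src _ _

theorem sGEincl_comp (a b : ℤ) (h : a ≤ b) : sGEincl K a b h ≫ DerCat.sGEι K a = DerCat.sGEι K b := by
  ext i
  by_cases hi : b ≤ i
  · simp [sGEincl, DerCat.sGEι, dif_pos hi, dif_pos (h.trans hi)]
  · exact (DerCat.isZero_sGE K (by omega)).eq_of_src _ _

/-- The stupid truncations as a sequence. -/
noncomputable def seq : ℕ ⥤ CochainComplex A ℤ :=
  Functor.ofSequence (X := fun n => DerCat.sGE K (-(n : ℤ)))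
    fun _ => sGEincl K _ _ (by omega)

/-- The cocone with point the complex. -/
noncomputable def seqCocone : Cocone (seq K) where
  pt := K
  ι := NatTrans.ofSequence (fun n => DerCat.sGEι K (-(n : ℤ))) fun n => by
    change (seq K).map _ ≫ DerCat.sGEι K (-((n + 1 : ℕ) : ℤ)) = DerCat.sGEι K (-(n : ℤ)) ≫ 𝟙 K
    rw [Category.comp_id]
    exact (congrArg (fun t => t ≫ _) (Functor.ofSequence_map_homOfLE_succ _ n)).trans (sGEincl_comp K _ _ (by omega))

/-- A cocone on a sequence whose legs are eventually invertible is a colimit. -/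
noncomputable def isColimitOfEventuallyIso {C : Type u'} [Category.{v'} C] {G : ℕ ⥤ C} (c : Cocone G) (N : ℕ)
    (h : ∀ n, N ≤ n → IsIso (c.ι.app n)) : IsColimit c :=
  have := h N le_rfl
  { desc := fun s => inv (c.ι.app N) ≫ s.ι.app N
    fac := fun s n => by
      have hm := h (max n N) (le_max_right _ _)
      have key : ∀ (a : ℕ) (ha : a ≤ max n N), c.ι.app a ≫ inv (c.ι.app (max n N)) = G.map (homOfLE ha) :=
        fun a ha => by rw [IsIso.comp_inv_eq]; exact (c.w _).symm
      have e : inv (c.ι.app N) ≫ s.ι.app N = inv (c.ι.app (max n N)) ≫ s.ι.app (max n N) := by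
        rw [IsIso.inv_comp_eq, ← Category.assoc, key N (le_max_right n N), s.w]
      rw [e, ← Category.assoc, key n (le_max_left n N), s.w]
    uniq := fun s g hg => by rw [IsIso.eq_inv_comp]; exact hg _ }

/-- The complex is the colimit of its stupid truncations. -/
noncomputable def isColimitSeqCocone : IsColimit (seqCocone K) :=
  HomologicalComplex.isColimitOfEval _ _ fun i =>
    isColimitOfEventuallyIso _ (-i).toNat fun n hn => isIso_sGEι_f K (by omega)

end Seq

variable {A : Type u} [Category.{v} A] [Abelian A] [IsGrothendieckAbelian.{v} A] [HasDerivedCategory.{w} A]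
  {B : Type u'} [Category.{v'} B] [Abelian B] [HasDerivedCategory.{w'} B]
  [HasColimitsOfShape (Discrete ℕ) B] [HasExactColimitsOfShape (Discrete ℕ) B]
  (F : A ⥤ B) [F.Additive] [PreservesColimitsOfShape (Discrete ℕ) F]
  [(mapD F).HasRightDerivedFunctor (HomotopyCategory.quasiIso A (ComplexShape.up ℤ))]
  [PreservesColimitsOfShape (Discrete ℕ)
    ((mapD F).totalRightDerived DerivedCategory.Qh (HomotopyCategory.quasiIso A (ComplexShape.up ℤ)))]

/-- A countable coproduct of good complexes is good. -/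
theorem good_sigma (X : ℕ → CochainComplex A ℤ)
    (hX : ∀ n, IsGood F ((HomotopyCategory.quotient A (ComplexShape.up ℤ)).obj (X n))) :
    IsGood F ((HomotopyCategory.quotient A (ComplexShape.up ℤ)).obj (∐ X)) := by
  rw [good_iff]
  let q := HomotopyCategory.quotient A (ComplexShape.up ℤ)
  let c : Cofan fun n => q.obj (X n) := Cofan.mk (q.obj (∐ X)) fun n => q.map (Sigma.ι X n)
  have hc : IsColimit c := HoCat.isColimitQuotientCofan X
  have := preservesColimitsOfShape_mapHomologicalComplex (α := ℕ) F (ComplexShape.up ℤ)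
  let H : CochainComplex A ℤ ⥤ DerivedCategory B :=
    F.mapHomologicalComplex (ComplexShape.up ℤ) ⋙ HomotopyCategory.quotient B (ComplexShape.up ℤ) ⋙
      DerivedCategory.Qh
  have h₁ : IsColimit (Cofan.mk (H.obj (∐ X)) fun n => H.map (Sigma.ι X n)) :=
    isColimitOfHasCoproductOfPreservesColimit H X
  have h₂ : IsColimit ((mapD F).mapCocone c) := (isColimitMapCoconeCofanMkEquiv (mapD F) _ _).symm h₁
  refine isIso_app_pt (c := c) _ h₂ ?_ fun n => (good_iff F _).1 (hX n.as)
  exact isColimitOfPreserves (DerivedCategory.Qh ⋙ (mapD F).totalRightDerived DerivedCategory.Qh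
    (HomotopyCategory.quasiIso A (ComplexShape.up ℤ))) hc

theorem good_of_acyclic [PreservesFiniteLimits F] (K : CochainComplex A ℤ)
    (hK : ∀ (m : ℤ) (i : ℕ), 0 < i → IsZero ((F.rightDerived i).obj (K.X m))) :
    IsGood F ((HomotopyCategory.quotient A (ComplexShape.up ℤ)).obj K) := by
  have hseq : ∀ n : ℕ, IsGood F ((HomotopyCategory.quotient A (ComplexShape.up ℤ)).obj ((seq K).obj n)) := by
    intro n
    have : ((seq K).obj n).IsStrictlyGE (-(n : ℤ)) :=
      inferInstanceAs ((DerCat.sGE K (-(n : ℤ))).IsStrictlyGE _)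
    refine good_of_isStrictlyGE F _ (-(n : ℤ)) fun m i hi => ?_
    by_cases hm : -(n : ℤ) ≤ m
    · exact (hK m i hi).of_iso ((F.rightDerived i).mapIso (DerCat.sGEXIso K hm))
    · exact (F.rightDerived i).map_isZero (DerCat.isZero_sGE K (by omega))
  have : HasExactColimitsOfShape ℕ A :=
    have : HasExactColimitsOfShape (ULiftHom.{v} (ULift.{v} ℕ)) A := AB5OfSize.ofShape _
    HasExactColimitsOfShape.of_domain_equivalence A (ULiftHomULiftCategory.equiv.{v, v} ℕ).symm
  let L := seq K
  let f : ∀ n, L.obj n ⟶ L.obj (n + 1) := fun n => L.map (homOfLE (Nat.le_succ n))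
  have w₀ : (𝟙 (∐ L.obj) - DerLim.shiftMap L.obj f) ≫ Sigma.desc (fun n => colimit.ι L n) = 0 := by
    refine Sigma.hom_ext _ _ fun n => ?_
    rw [← Category.assoc, Preadditive.comp_sub, Category.comp_id, DerLim.shiftMap, Sigma.ι_desc,
      Preadditive.sub_comp, Category.assoc, Sigma.ι_desc, Sigma.ι_desc, colimit.w, sub_self, comp_zero]
  let e : colimit L ≅ K := (colimit.isColimit L).coconePointUniqueUpToIso (isColimitSeqCocone K)
  let g : ∀ n, L.obj n ⟶ K := fun n => DerCat.sGEι K (-(n : ℤ))
  have hg : ∀ n, colimit.ι L n ≫ e.hom = g n := fun n =>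
    (colimit.isColimit L).comp_coconePointUniqueUpToIso_hom (isColimitSeqCocone K) n
  have he : Sigma.desc (fun n => colimit.ι L n) ≫ e.hom = Sigma.desc g :=
    Sigma.hom_ext _ _ fun n => by rw [Sigma.ι_desc_assoc, Sigma.ι_desc, hg]
  let S := ShortComplex.mk (𝟙 (∐ L.obj) - DerLim.shiftMap L.obj f) (Sigma.desc g)
    (by rw [← he, ← Category.assoc, w₀, zero_comp])
  have hS : S.ShortExact := by
    refine ShortComplex.shortExact_of_iso
      (ShortComplex.isoMk (S₁ := ShortComplex.mk _ _ w₀) (S₂ := S) (Iso.refl _) (Iso.refl _) e ?_ ?_)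
      (DerCat.shortExact_telescope L (w := w₀))
    · simp [S]
    · simpa [S] using he.symm
  have hσ : ∀ i, Nonempty (S.map (HomologicalComplex.eval A (ComplexShape.up ℤ) i)).Splitting := by
    intro i
    have hN : IsIso ((g (-i).toNat).f i) := isIso_sGEι_f K (by omega)
    let s₀ : K.X i ⟶ (∐ L.obj).X i := @inv _ _ _ _ ((g (-i).toNat).f i) hN ≫ (Sigma.ι L.obj (-i).toNat).f i
    have hi := hS.map_of_exact (HomologicalComplex.eval A (ComplexShape.up ℤ) i)
    refine ⟨ShortComplex.Splitting.ofExactOfSection _ hi.exact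
      s₀ ?_ hi.mono_f⟩
    change (_ ≫ _) ≫ (Sigma.desc g).f i = 𝟙 (K.X i)
    rw [Category.assoc, ← HomologicalComplex.comp_f, Sigma.ι_desc, IsIso.inv_comp_eq, Category.comp_id]
  let σ := fun i => (hσ i).some
  have hT : CochainComplex.trianglehOfDegreewiseSplit S σ ∈ distTriang _ :=
    (HomotopyCategory.distinguished_iff_iso_trianglehOfDegreewiseSplit _).2 ⟨S, σ, ⟨Iso.refl _⟩⟩
  exact good₃ F _ hT (good_sigma F _ hseq) (good_sigma F _ hseq)

end GrothLib.CohDer19.Good
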