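import Mathlib.Algebra.Homology.HomotopyCategory.Pretriangulated
import Mathlib.Algebra.Homology.HomologicalComplexBiprod
import Mathlib.Algebra.Homology.Embedding.CochainComplex

/-!
Factorizations of maps of cochain complexes through termwise split monomorphisms / epimorphisms
up to homotopy equivalence.
-/

set_option autoImplicit false
universe v u
open CategoryTheory CategoryTheory.Limits CochainComplex

namespace GrothLib.CohDer19

variable {V : Type u} [Category.{v} V] [Preadditive V] [HasBinaryBiproducts V] [HasZeroObject V]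
variable {K L : CochainComplex V ℤ} (α : K ⟶ L)
set_option linter.unusedSectionVars false
set_option linter.style.haveILetI false

/-- `L ⊞ C(𝟙 K)`. -/
noncomputable abbrev Cyl (K L : CochainComplex V ℤ) : CochainComplex V ℤ :=
  L ⊞ mappingCone (𝟙 K)

noncomputable abbrev cylIncl : K ⟶ Cyl K L := biprod.lift α (mappingCone.inr (𝟙 K))

noncomputable def cylHomotopy : Homotopy ((biprod.fst : Cyl K L ⟶ L) ≫ biprod.inl) (𝟙 (Cyl K L)) :=
  let h : Homotopy ((biprod.snd : Cyl K L ⟶ _) ≫ 𝟙 (mappingCone (𝟙 K)) ≫ biprod.inr) 0 :=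
    (((mappingCone.homotopyToZeroOfId K).compRight biprod.inr).compLeft biprod.snd).trans
      (Homotopy.ofEq (by simp))
  (Homotopy.ofEq (add_zero _).symm).trans
    (((Homotopy.refl _).add h.symm).trans (Homotopy.ofEq (by rw [Category.id_comp, biprod.total])))

noncomputable def cylXIso (n : ℤ) : (Cyl K L).X n ≅ K.X n ⊞ (L.X n ⊞ K.X (n + 1)) where
  hom := biprod.lift ((biprod.snd : Cyl K L ⟶ _).f n ≫ (mappingCone.snd (𝟙 K)).v n n (add_zero n))
    (biprod.lift ((biprod.fst : Cyl K L ⟶ _).f n -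
        (biprod.snd : Cyl K L ⟶ _).f n ≫ (mappingCone.snd (𝟙 K)).v n n (add_zero n) ≫ α.f n)
      ((biprod.snd : Cyl K L ⟶ _).f n ≫ (mappingCone.fst (𝟙 K)).1.v n (n + 1) rfl))
  inv := biprod.desc ((cylIncl α).f n) (biprod.desc ((biprod.inl : L ⟶ Cyl K L).f n)
    ((mappingCone.inl (𝟙 K)).v (n + 1) n (by lia) ≫ (biprod.inr : _ ⟶ Cyl K L).f n))
  hom_inv_id := by
    have h : (cylIncl α).f n = α.f n ≫ (biprod.inl : L ⟶ Cyl K L).f n +
        (mappingCone.inr (𝟙 K)).f n ≫ (biprod.inr : _ ⟶ Cyl K L).f n := by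
      simp [cylIncl, biprod.lift_eq]
    refine HomologicalComplex.biprodX_ext_from ?_ ?_
    · simp [biprod.lift_desc, h]
    · simp only [biprod.lift_desc, h, Category.comp_id]
      simp [mappingCone.ext_from_iff _ (n + 1) n rfl]
  inv_hom_id := by
    ext <;> simp

lemma cylIncl_f_cylXIso (n : ℤ) : (cylIncl α).f n ≫ (cylXIso α n).hom = biprod.inl := by
  have h : (cylXIso α n).inv = biprod.desc ((cylIncl α).f n) _ := rfl
  rw [← cancel_mono (cylXIso α n).inv, Category.assoc, Iso.hom_inv_id, Category.comp_id, h,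
    biprod.inl_desc]

lemma isStrictlyGE_cyl (a : ℤ) [K.IsStrictlyGE a] [L.IsStrictlyGE a] :
    (Cyl K L).IsStrictlyGE (a - 1) := by
  rw [isStrictlyGE_iff]
  intro i hi
  refine IsZero.of_iso ?_ (HomologicalComplex.biprodXIso L (mappingCone (𝟙 K)) i)
  simp only [biprod_isZero_iff, mappingCone.isZero_X_iff]
  exact ⟨L.isZero_of_isStrictlyGE a i (by lia), K.isZero_of_isStrictlyGE a _ (by lia),
    K.isZero_of_isStrictlyGE a _ (by lia)⟩

lemma isStrictlyLE_cyl (a : ℤ) [K.IsStrictlyLE a] [L.IsStrictlyLE a] :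
    (Cyl K L).IsStrictlyLE a := by
  rw [isStrictlyLE_iff]
  intro i hi
  refine IsZero.of_iso ?_ (HomologicalComplex.biprodXIso L (mappingCone (𝟙 K)) i)
  simp only [biprod_isZero_iff, mappingCone.isZero_X_iff]
  exact ⟨L.isZero_of_isStrictlyLE a i (by lia), K.isZero_of_isStrictlyLE a _ (by lia),
    K.isZero_of_isStrictlyLE a _ (by lia)⟩

theorem factor_splitMono (K L : CochainComplex V ℤ) (α : K ⟶ L) :
    ∃ (L' : CochainComplex V ℤ) (α' : K ⟶ L') (π : L' ⟶ L) (s : L ⟶ L'),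
      α' ≫ π = α ∧ s ≫ π = 𝟙 L ∧ Nonempty (Homotopy (π ≫ s) (𝟙 L')) ∧
      (∀ n : ℤ, ∃ (C : V) (e : L'.X n ≅ K.X n ⊞ C), α'.f n ≫ e.hom = biprod.inl) ∧
      (∀ a : ℤ, K.IsStrictlyGE a → L.IsStrictlyGE a → ∃ a' : ℤ, L'.IsStrictlyGE a') ∧
      (∀ a : ℤ, K.IsStrictlyLE a → L.IsStrictlyLE a → ∃ a' : ℤ, L'.IsStrictlyLE a') :=
  ⟨Cyl K L, cylIncl α, biprod.fst, biprod.inl, by simp, by simp, ⟨cylHomotopy⟩,
    fun n => ⟨_, cylXIso α n, cylIncl_f_cylXIso α n⟩,
    fun a _ _ => ⟨a - 1, isStrictlyGE_cyl a⟩, fun a _ _ => ⟨a, isStrictlyLE_cyl a⟩⟩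

/-! ## Split epimorphisms -/

section Cocyl

variable (M L : CochainComplex V ℤ) (θ : M⟦(1 : ℤ)⟧ ≅ L)

noncomputable def coneDelta : mappingCone (𝟙 M) ⟶ M⟦(1 : ℤ)⟧ :=
  (mappingCone.triangle (𝟙 M)).mor₃

noncomputable def coneProj : mappingCone (𝟙 M) ⟶ L := coneDelta M ≫ θ.hom

lemma inl_coneDelta (n : ℤ) :
    (mappingCone.inl (𝟙 M)).v (n + 1) n (by lia) ≫ (coneDelta M).f n =
      -(M.shiftFunctorObjXIso 1 n (n + 1) rfl).inv :=
  mappingCone.inl_v_triangle_mor₃_f _ _ _ _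

lemma inr_coneDelta (n : ℤ) : (mappingCone.inr (𝟙 M)).f n ≫ (coneDelta M).f n = 0 :=
  mappingCone.inr_f_triangle_mor₃_f _ _

noncomputable def coneProjSec (n : ℤ) : L.X n ⟶ (mappingCone (𝟙 M)).X n :=
  θ.inv.f n ≫ (-(M.shiftFunctorObjXIso 1 n (n + 1) rfl).hom) ≫
    (mappingCone.inl (𝟙 M)).v (n + 1) n (by lia)

lemma inl_coneProj (n : ℤ) :
    (mappingCone.inl (𝟙 M)).v (n + 1) n (by lia) ≫ (coneProj M L θ).f n =
      (-(M.shiftFunctorObjXIso 1 n (n + 1) rfl).inv) ≫ θ.hom.f n := by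
  rw [coneProj, HomologicalComplex.comp_f, ← Category.assoc, inl_coneDelta]

lemma inr_coneProj (n : ℤ) : (mappingCone.inr (𝟙 M)).f n ≫ (coneProj M L θ).f n = 0 := by
  rw [coneProj, HomologicalComplex.comp_f, ← Category.assoc, inr_coneDelta, zero_comp]

lemma coneProjSec_comp (n : ℤ) : coneProjSec M L θ n ≫ (coneProj M L θ).f n = 𝟙 _ := by
  rw [coneProjSec, Category.assoc, Category.assoc, inl_coneProj]
  simp only [Preadditive.neg_comp, Preadditive.comp_neg, neg_neg, Category.assoc]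
  rw [Iso.hom_inv_id_assoc, ← HomologicalComplex.comp_f, Iso.inv_hom_id, HomologicalComplex.id_f]

lemma coneProjSec_snd (n : ℤ) :
    coneProjSec M L θ n ≫ (mappingCone.snd (𝟙 M)).v n n (add_zero n) = 0 := by
  rw [coneProjSec, Category.assoc, Category.assoc, mappingCone.inl_v_snd_v, comp_zero, comp_zero]

lemma coneProj_sec_add (n : ℤ) :
    (coneProj M L θ).f n ≫ coneProjSec M L θ n +
      (mappingCone.snd (𝟙 M)).v n n (add_zero n) ≫ (mappingCone.inr (𝟙 M)).f n = 𝟙 _ := by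
  rw [mappingCone.ext_from_iff _ (n + 1) n rfl]
  constructor
  · rw [Preadditive.comp_add, ← Category.assoc, inl_coneProj, coneProjSec, Category.assoc,
      ← Category.assoc (θ.hom.f n), ← HomologicalComplex.comp_f, Iso.hom_inv_id,
      HomologicalComplex.id_f, Category.id_comp, mappingCone.inl_v_snd_v_assoc, zero_comp,
      add_zero, Category.comp_id]
    simp only [Preadditive.neg_comp, Preadditive.comp_neg, neg_neg, Category.assoc]
    rw [Iso.inv_hom_id_assoc]
  · rw [Preadditive.comp_add, ← Category.assoc, inr_coneProj, zero_comp, zero_add,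
      mappingCone.inr_f_snd_v_assoc, Category.comp_id]

end Cocyl

theorem factor_splitEpi (K L : CochainComplex V ℤ) (α : K ⟶ L) :
    ∃ (K' : CochainComplex V ℤ) (i : K ⟶ K') (α' : K' ⟶ L) (s : K' ⟶ K),
      i ≫ α' = α ∧ i ≫ s = 𝟙 K ∧ Nonempty (Homotopy (s ≫ i) (𝟙 K')) ∧
      (∀ n : ℤ, ∃ (C : V) (e : K'.X n ≅ C ⊞ L.X n), e.inv ≫ α'.f n = biprod.snd) ∧
      (∀ a : ℤ, K.IsStrictlyGE a → L.IsStrictlyGE a → ∃ a' : ℤ, K'.IsStrictlyGE a') ∧
      (∀ a : ℤ, K.IsStrictlyLE a → L.IsStrictlyLE a → ∃ a' : ℤ, K'.IsStrictlyLE a') := by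
  let M : CochainComplex V ℤ := L⟦(-1 : ℤ)⟧
  let θ : M⟦(1 : ℤ)⟧ ≅ L := (shiftEquiv (CochainComplex V ℤ) (1 : ℤ)).counitIso.app L
  let p := coneProj M L θ
  let α' : Cyl M K ⟶ L := biprod.desc α p
  refine ⟨Cyl M K, biprod.inl, α', biprod.fst, by simp [α'], by simp, ⟨cylHomotopy⟩,
    fun n => ?_, fun a _ _ => ?_, fun a _ _ => ?_⟩
  · have hα' : α'.f n = (biprod.fst : Cyl M K ⟶ K).f n ≫ α.f n +
        (biprod.snd : Cyl M K ⟶ _).f n ≫ p.f n := by
      simp [α', biprod.desc_eq]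
    refine ⟨K.X n ⊞ M.X n,
      { hom := biprod.lift (biprod.lift ((biprod.fst : Cyl M K ⟶ K).f n)
          ((biprod.snd : Cyl M K ⟶ _).f n ≫ (mappingCone.snd (𝟙 M)).v n n (add_zero n))) (α'.f n)
        inv := biprod.desc (biprod.desc
          ((biprod.inl : K ⟶ Cyl M K).f n -
            α.f n ≫ coneProjSec M L θ n ≫ (biprod.inr : _ ⟶ Cyl M K).f n)
          ((mappingCone.inr (𝟙 M)).f n ≫ (biprod.inr : _ ⟶ Cyl M K).f n))
          (coneProjSec M L θ n ≫ (biprod.inr : _ ⟶ Cyl M K).f n)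
        hom_inv_id := ?_
        inv_hom_id := ?_ }, ?_⟩
    · refine HomologicalComplex.biprodX_ext_from ?_ ?_
      · simp only [biprod.lift_desc, hα', Preadditive.comp_add, Preadditive.add_comp,
          Preadditive.comp_sub, Category.assoc, HomologicalComplex.biprod_inl_fst_f_assoc,
          HomologicalComplex.biprod_inl_snd_f_assoc, zero_comp, add_zero, Category.comp_id,
          sub_add_cancel]
      · have := congrArg (· ≫ (biprod.inr : _ ⟶ Cyl M K).f n) (coneProj_sec_add M L θ n)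
        simp only [Preadditive.add_comp, Category.assoc, Category.id_comp] at this
        simp only [biprod.lift_desc, hα', Preadditive.comp_add, Preadditive.add_comp,
          Category.assoc, HomologicalComplex.biprod_inr_fst_f_assoc,
          HomologicalComplex.biprod_inr_snd_f_assoc, zero_comp, zero_add, Category.comp_id]
        rw [add_comm]
        exact this
    · apply biprod.hom_ext' <;> [apply biprod.hom_ext'; skip] <;>
        apply biprod.hom_ext <;>
        (try apply biprod.hom_ext) <;>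
        simp [hα', p, coneProjSec_comp, coneProjSec_snd, inr_coneProj,
          -HomologicalComplex.biprod_total_f]
    · apply biprod.hom_ext'
      · apply biprod.hom_ext' <;>
          simp [hα', p, coneProjSec_comp, inr_coneProj, -HomologicalComplex.biprod_total_f]
      · simp [hα', p, coneProjSec_comp, -HomologicalComplex.biprod_total_f]
  · have hL : M.IsStrictlyGE (a + 1) := L.isStrictlyGE_shift a (-1) (a + 1) (by lia)
    haveI : M.IsStrictlyGE a := M.isStrictlyGE_of_ge a (a + 1) (by lia)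
    exact ⟨a - 1, isStrictlyGE_cyl a⟩
  · haveI : M.IsStrictlyLE (a + 1) := L.isStrictlyLE_shift a (-1) (a + 1) (by lia)
    haveI : K.IsStrictlyLE (a + 1) := K.isStrictlyLE_of_le a (a + 1) (by lia)
    exact ⟨a + 1, isStrictlyLE_cyl (a + 1)⟩

theorem exists_ladder (X : ℕ → CochainComplex V ℤ) (a : ∀ i, X i ⟶ X (i + 1)) :
    ∃ (B : ℕ → CochainComplex V ℤ) (b : ∀ i, B i ⟶ B (i + 1)) (e : ∀ i, HomotopyEquiv (B i) (X i)),
      (∀ i, b i ≫ (e (i + 1)).hom = (e i).hom ≫ a i) ∧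
      (∀ (i : ℕ) (n : ℤ), ∃ (C : V) (ε : (B (i + 1)).X n ≅ (B i).X n ⊞ C),
        (b i).f n ≫ ε.hom = biprod.inl) ∧
      ((∀ i, ∃ m : ℤ, (X i).IsStrictlyGE m) → ∀ i, ∃ m : ℤ, (B i).IsStrictlyGE m) ∧
      ((∀ i, ∃ m : ℤ, (X i).IsStrictlyLE m) → ∀ i, ∃ m : ℤ, (B i).IsStrictlyLE m) := by
  let T : ∀ i, Σ B : CochainComplex V ℤ, HomotopyEquiv B (X i) := fun i => Nat.rec
    ⟨X 0, HomotopyEquiv.refl _⟩
    (fun i p => ⟨Cyl p.1 (X (i + 1)),
      { hom := biprod.fst
        inv := biprod.inl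
        homotopyHomInvId := cylHomotopy
        homotopyInvHomId := Homotopy.ofEq (by simp) }⟩) i
  let b : ∀ i, (T i).1 ⟶ (T (i + 1)).1 := fun i => cylIncl ((T i).2.hom ≫ a i)
  refine ⟨fun i => (T i).1, b, fun i => (T i).2,
    fun i => biprod.lift_fst _ _,
    fun i n => ⟨_, cylXIso _ n, cylIncl_f_cylXIso _ n⟩, fun h i => ?_, fun h i => ?_⟩
  · induction i with
    | zero => exact h 0
    | succ i ih =>
      obtain ⟨m, hm⟩ := ih
      obtain ⟨m', hm'⟩ := h (i + 1)
      haveI := (T i).1.isStrictlyGE_of_ge (min m m') m (min_le_left _ _)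
      haveI := (X (i + 1)).isStrictlyGE_of_ge (min m m') m' (min_le_right _ _)
      exact ⟨_, isStrictlyGE_cyl (min m m')⟩
  · induction i with
    | zero => exact h 0
    | succ i ih =>
      obtain ⟨m, hm⟩ := ih
      obtain ⟨m', hm'⟩ := h (i + 1)
      haveI := (T i).1.isStrictlyLE_of_le m (max m m') (le_max_left _ _)
      haveI := (X (i + 1)).isStrictlyLE_of_le m' (max m m') (le_max_right _ _)
      exact ⟨_, isStrictlyLE_cyl (max m m')⟩

end GrothLib.CohDer19
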