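import Groth.Agent.Lib.KInj.Resolution
import Mathlib.Algebra.Homology.HomotopyCategory.MappingCone
import Mathlib.Algebra.Homology.QuasiIso

/-!
# K-injective resolutions by degreewise monomorphisms
-/

universe v u

open CategoryTheory CategoryTheory.Limits HomologicalComplex CochainComplex CochainComplex.HomComplex

namespace GrothLib.CohDer19

variable {A : Type u} [Category.{v} A] [Abelian A]

lemma injective_mappingCone_X {E F : CochainComplex A ℤ} (f : E ⟶ F)
    [∀ n, Injective (E.X n)] [∀ n, Injective (F.X n)] (n : ℤ) : Injective ((mappingCone f).X n) :=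
  Injective.of_iso (HomologicalComplex.homotopyCofiber.XIsoBiprod f n (n + 1) rfl).symm inferInstance

lemma isKInjective_of_contractible {M : CochainComplex A ℤ} (h : Homotopy (𝟙 M) 0) : M.IsKInjective where
  nonempty_homotopy_zero f _ :=
    ⟨(Homotopy.ofEq (Category.comp_id f).symm).trans ((h.compLeft f).trans (Homotopy.ofEq (by simp)))⟩

lemma isKInjective_biprod (I M : CochainComplex A ℤ) [I.IsKInjective] [M.IsKInjective] :
    (I ⊞ M).IsKInjective where
  nonempty_homotopy_zero f hK := by
    obtain ⟨H₁⟩ := IsKInjective.nonempty_homotopy_zero (f ≫ biprod.fst) hK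
    obtain ⟨H₂⟩ := IsKInjective.nonempty_homotopy_zero (f ≫ biprod.snd) hK
    exact ⟨(Homotopy.ofEq (show f = (f ≫ biprod.fst) ≫ biprod.inl + (f ≫ biprod.snd) ≫ biprod.inr by
        rw [Category.assoc, Category.assoc, ← Preadditive.comp_add, biprod.total, Category.comp_id])).trans
      (((H₁.compRight biprod.inl).add (H₂.compRight biprod.inr)).trans (Homotopy.ofEq (by simp)))⟩

/-- A K-injective resolution which is a degreewise monomorphism. -/
theorem exists_mono_kInjective_resolution [IsGrothendieckAbelian.{v} A] (K : CochainComplex A ℤ) :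
    ∃ (I : CochainComplex A ℤ) (f : K ⟶ I), I.IsKInjective ∧ QuasiIso f ∧ (∀ n, Mono (f.f n)) ∧
      ∀ n, Injective (I.X n) := by
  obtain ⟨I, i, hi, hI, hinj⟩ := KInj.exists_kInjective_resolution A K
  let E : CochainComplex A ℤ :=
    { X := fun n => Injective.under (K.X n)
      d := fun _ _ => 0
      shape := fun _ _ _ => rfl
      d_comp_d' := fun _ _ _ _ _ => comp_zero }
  let M := mappingCone (𝟙 E)
  have : M.IsKInjective := isKInjective_of_contractible (mappingCone.homotopyToZeroOfId E)
  have := hI
  have hEinj : ∀ n, Injective (E.X n) := fun n => (inferInstance : Injective (Injective.under (K.X n)))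
  let α : Cocycle K E 1 := Cocycle.mk
    (Cochain.mk fun p q hpq => K.d p q ≫ Injective.ι (K.X q)) 2 (by omega) (by
      ext p q hpq
      simp [δ_v 1 2 (by omega) _ p q hpq (q - 1) (p + 1) rfl rfl, E])
  let β : Cochain K E 0 := Cochain.ofHoms fun n => Injective.ι (K.X n)
  let m : K ⟶ M := mappingCone.lift (𝟙 E) α β (by
    ext p q hpq
    simp [δ_v 0 1 (by omega) _ p q hpq p q (by omega) hpq, α, β, E])
  have hm : ∀ n, m.f n ≫ (mappingCone.snd (𝟙 E)).v n n (add_zero n) = Injective.ι (K.X n) := fun n => by
    simp [m, β]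
  refine ⟨I ⊞ M, biprod.lift i m, isKInjective_biprod I M, ?_, fun n => ?_, fun n => ?_⟩
  · refine ⟨fun n => ?_⟩
    rw [quasiIsoAt_iff_isIso_homologyMap]
    have hz : homologyMap (biprod.snd ≫ biprod.inr : I ⊞ M ⟶ I ⊞ M) n = 0 := by
      have h0 : 𝟙 (M.homology n) = 0 := by
        rw [← homologyMap_id, (mappingCone.homotopyToZeroOfId E).homologyMap_eq n, homologyMap_zero]
      rw [homologyMap_comp, ← Category.id_comp (homologyMap (biprod.inr : M ⟶ I ⊞ M) n), h0,
        zero_comp, comp_zero]
    have : IsIso (homologyMap (biprod.fst : I ⊞ M ⟶ I) n) :=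
      ⟨homologyMap biprod.inl n, by
        rw [← homologyMap_comp, eq_sub_of_add_eq (biprod.total (X := I) (Y := M)), homologyMap_sub,
          hz, sub_zero, homologyMap_id], by
        rw [← homologyMap_comp, biprod.inl_fst, homologyMap_id]⟩
    have : IsIso (homologyMap i n) := (quasiIsoAt_iff_isIso_homologyMap i n).1 (hi.quasiIsoAt n)
    have : IsIso (homologyMap (biprod.lift i m) n ≫ homologyMap (biprod.fst : I ⊞ M ⟶ I) n) := by
      rw [← homologyMap_comp, biprod.lift_fst]
      infer_instance
    exact IsIso.of_isIso_comp_right _ (homologyMap (biprod.fst : I ⊞ M ⟶ I) n)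
  · exact mono_of_mono_fac (show (biprod.lift i m).f n ≫
      (biprod.snd : I ⊞ M ⟶ M).f n ≫ (mappingCone.snd (𝟙 E)).v n n (add_zero n) =
        Injective.ι (K.X n) by rw [← comp_f_assoc, biprod.lift_snd, hm])
  · have := injective_mappingCone_X (𝟙 E) n
    exact Injective.of_iso (HomologicalComplex.biprodXIso I M n).symm inferInstance

end GrothLib.CohDer19
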