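import Groth.Agent.Lib.KInj.Derived
import Mathlib.Algebra.Homology.DerivedCategory.KInjective
import Mathlib.Algebra.Homology.DerivedCategory.ExactFunctor
import Mathlib.CategoryTheory.Adjunction.Restrict
import Mathlib.CategoryTheory.Adjunction.PartialAdjoint
import Mathlib.CategoryTheory.Adjunction.Whiskering
import Mathlib.CategoryTheory.Adjunction.Comma
import Mathlib.CategoryTheory.Functor.Derived.RightDerived

/-! # Derived functors from enough K-injective complexes -/

universe w w' v v' v'' u u' u''

open CategoryTheory CategoryTheory.Limits HomologicalComplex HomotopyCategory GrothLib.KInj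

namespace GrothLib.CohDer19.Enough

variable {A : Type u} [Category.{v} A] [Abelian A]

section KInjResolutions

variable [HasDerivedCategory.{w} A]
  (hK : ∀ K : CochainComplex A ℤ, ∃ (I : CochainComplex A ℤ) (f : K ⟶ I), I.IsKInjective ∧ QuasiIso f)

include hK in
/-- `Hom` into a K-injective complex in the derived category. -/
theorem isLeftAdjoint_Qh : (DerivedCategory.Qh (C := A)).IsLeftAdjoint := by
  refine Functor.isLeftAdjoint_of_rightAdjointObjIsDefined_eq_top (funext fun Y => ?_)
  simp only [Pi.top_apply, Prop.top_eq_true, eq_iff_iff, iff_true]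
  rw [Functor.rightAdjointObjIsDefined_iff]
  have := Localization.essSurj (DerivedCategory.Qh (C := A)) (subcategoryAcyclic A).trW
  let X := DerivedCategory.Qh.objPreimage Y
  obtain ⟨I, i, hI, hi⟩ := hK X.as
  have : IsIso (DerivedCategory.Qh.map ((quotient A (ComplexShape.up ℤ)).map i)) := by
    refine Localization.inverts DerivedCategory.Qh (HomotopyCategory.quasiIso A (ComplexShape.up ℤ)) _ ?_
    rwa [quotient_map_mem_quasiIso_iff, HomologicalComplex.mem_quasiIso_iff]
  let e : DerivedCategory.Qh.obj ((quotient A (ComplexShape.up ℤ)).obj I) ≅ Y :=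
    (asIso (DerivedCategory.Qh.map ((quotient A (ComplexShape.up ℤ)).map i))).symm ≪≫
      DerivedCategory.Qh.objObjPreimageIso Y
  have hb : ∀ Z, Function.Bijective (fun f : Z ⟶ (quotient A (ComplexShape.up ℤ)).obj I =>
      DerivedCategory.Qh.map f ≫ e.hom) := fun Z => by
    exact (Iso.homToEquiv e).bijective.comp (CochainComplex.IsKInjective.Qh_map_bijective Z I)
  exact Functor.RepresentableBy.isRepresentable
    { homEquiv := fun {Z} => Equiv.ofBijective _ (hb Z)
      homEquiv_comp := fun {Z Z'} f g => by simp }

/-- The functor of K-injective resolutions. -/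
noncomputable def res : DerivedCategory A ⥤ HomotopyCategory A (ComplexShape.up ℤ) :=
  have := isLeftAdjoint_Qh hK
  (DerivedCategory.Qh (C := A)).rightAdjoint

/-- The localization functor is left adjoint to K-injective resolutions. -/
noncomputable def resAdj : DerivedCategory.Qh ⊣ res hK :=
  have := isLeftAdjoint_Qh hK
  Adjunction.ofIsLeftAdjoint (DerivedCategory.Qh (C := A))

instance : (res hK).IsRightAdjoint := (resAdj hK).isRightAdjoint

instance isIso_resAdj_counit : IsIso (resAdj hK).counit :=
  isIso_counit_of_isLocalization _ (subcategoryAcyclic A).trW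

instance : (res hK).Full := (resAdj hK).fullyFaithfulROfIsIsoCounit.full

instance : (res hK).Faithful := (resAdj hK).fullyFaithfulROfIsIsoCounit.faithful

/-- The resolved objects are right orthogonal to acyclic complexes. -/
theorem rightOrthogonal_res (Y : DerivedCategory A) :
    (subcategoryAcyclic A).rightOrthogonal ((res hK).obj Y) := fun Z f hZ => by
  have h0 : IsZero (DerivedCategory.Qh.obj Z) := by
    have hW := ObjectProperty.trW.mk (subcategoryAcyclic A)
      (Pretriangulated.contractible_distinguished₁ Z) hZ
    have := Localization.inverts (DerivedCategory.Qh (C := A)) (subcategoryAcyclic A).trW _ hW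
    exact IsZero.of_iso (DerivedCategory.Qh.map_isZero (isZero_zero _))
      (@asIso _ _ _ _ _ this).symm
  apply ((resAdj hK).homEquiv Z Y).symm.injective
  exact h0.eq_of_src _ _

/-- The unit is an isomorphism exactly on right orthogonal objects. -/
theorem isIso_unit_of_rightOrthogonal {X : HomotopyCategory A (ComplexShape.up ℤ)}
    (hX : (subcategoryAcyclic A).rightOrthogonal X) : IsIso ((resAdj hK).unit.app X) := by
  let η := (resAdj hK).unit.app X
  have hη : IsIso (DerivedCategory.Qh.map η) := by
    have : IsIso (DerivedCategory.Qh.map η ≫ (resAdj hK).counit.app (DerivedCategory.Qh.obj X)) := by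
      rw [show DerivedCategory.Qh.map η ≫ _ = 𝟙 _ from (resAdj hK).left_triangle_components X]
      infer_instance
    exact IsIso.of_isIso_comp_right _ ((resAdj hK).counit.app (DerivedCategory.Qh.obj X))
  obtain ⟨g, hg⟩ := (hX.map_bijective_of_isTriangulated DerivedCategory.Qh
    ((res hK).obj (DerivedCategory.Qh.obj X))).2 (inv (DerivedCategory.Qh.map η))
  refine ⟨g, (hX.map_bijective_of_isTriangulated DerivedCategory.Qh X).1 ?_,
    ((rightOrthogonal_res hK _).map_bijective_of_isTriangulated DerivedCategory.Qh _).1 ?_⟩
  · rw [CategoryTheory.Functor.map_comp, hg]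
    exact (IsIso.hom_inv_id (DerivedCategory.Qh.map η)).trans (DerivedCategory.Qh.map_id _).symm
  · rw [CategoryTheory.Functor.map_comp, hg]
    exact (IsIso.inv_hom_id (DerivedCategory.Qh.map η)).trans (DerivedCategory.Qh.map_id _).symm

variable {E : Type u'} [Category.{v'} E] (F : HomotopyCategory A (ComplexShape.up ℤ) ⥤ E)

/-- The unit of the total right derived functor `res ⋙ F`. -/
noncomputable def derUnit : F ⟶ DerivedCategory.Qh ⋙ res hK ⋙ F :=
  (Adjunction.whiskerLeft E (resAdj hK)).unit.app F

instance isRightDerivedFunctor_res :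
    (res hK ⋙ F).IsRightDerivedFunctor (derUnit hK F)
      (HomotopyCategory.quasiIso A (ComplexShape.up ℤ)) :=
  (Functor.isRightDerivedFunctor_iff_isLeftKanExtension _ _ _).2
    (isLeftKanExtension_of_adjunction (resAdj hK) F)

include hK in
theorem hasRightDerivedFunctor :
    F.HasRightDerivedFunctor (HomotopyCategory.quasiIso A (ComplexShape.up ℤ)) :=
  Functor.HasRightDerivedFunctor.mk' (W := HomotopyCategory.quasiIso A (ComplexShape.up ℤ))
    (res hK ⋙ F) (derUnit hK F)

/-- The total right derived functor is computed by K-injective resolutions. -/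
noncomputable def totalRightDerivedIso
    [F.HasRightDerivedFunctor (HomotopyCategory.quasiIso A (ComplexShape.up ℤ))] :
    F.totalRightDerived DerivedCategory.Qh (HomotopyCategory.quasiIso A (ComplexShape.up ℤ)) ≅
      res hK ⋙ F :=
  Functor.rightDerivedUnique _ _ (F.totalRightDerivedUnit DerivedCategory.Qh
    (HomotopyCategory.quasiIso A (ComplexShape.up ℤ))) (derUnit hK F)
    (HomotopyCategory.quasiIso A (ComplexShape.up ℤ))

@[reassoc]
theorem totalRightDerivedUnit_iso_hom
    [F.HasRightDerivedFunctor (HomotopyCategory.quasiIso A (ComplexShape.up ℤ))]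
    (X : HomotopyCategory A (ComplexShape.up ℤ)) :
    (F.totalRightDerivedUnit DerivedCategory.Qh
      (HomotopyCategory.quasiIso A (ComplexShape.up ℤ))).app X ≫
      (totalRightDerivedIso hK F).hom.app (DerivedCategory.Qh.obj X) =
        F.map ((resAdj hK).unit.app X) := by
  simp [totalRightDerivedIso, Functor.rightDerivedUnique, Functor.rightDerivedNatIso, derUnit]

end KInjResolutions

end GrothLib.CohDer19.Enough
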