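import Mathlib.Algebra.Homology.Refinements
import Mathlib.Algebra.Homology.HomologySequence
import Mathlib.Algebra.Homology.QuasiIso
import Mathlib.Algebra.Homology.Embedding.CochainComplex
import Mathlib.CategoryTheory.Abelian.CommSq
import Mathlib.CategoryTheory.Preadditive.Injective.Basic
import Mathlib.CategoryTheory.Limits.Preserves.Shapes.Kernels

/-!
Injective resolutions, with terms in the essential image of an exact fully faithful functor, of a
bounded below complex whose cohomology lies in that essential image.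
-/

set_option autoImplicit false
universe v v' u u'
open CategoryTheory CategoryTheory.Limits
open scoped ZeroObject

namespace GrothLib.CohDer19.EssRes

variable {A' : Type u'} [Category.{v'} A'] [Abelian A'] {A : Type u} [Category.{v} A] [Abelian A]
  (ι : A' ⥤ A) [ι.Additive] [PreservesFiniteLimits ι] [PreservesFiniteColimits ι] [ι.Full]
  [ι.Faithful]

/-- The essential image is stable under cokernels. -/
theorem essImage_cokernel {X Y : A} (f : X ⟶ Y) (hX : ι.essImage X) (hY : ι.essImage Y) :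
    ι.essImage (cokernel f) := by
  obtain ⟨X', ⟨eX⟩⟩ := hX
  obtain ⟨Y', ⟨eY⟩⟩ := hY
  refine ⟨cokernel (ι.preimage (eX.hom ≫ f ≫ eY.inv)), ⟨PreservesCokernel.iso ι _ ≪≫
    cokernel.mapIso _ _ eX eY (by simp)⟩⟩

/-- Pushout squares up to refinements. -/
theorem eq_inl_inr {P Z C : A} (g : P ⟶ Z) (c : P ⟶ C) {B : A} (z : B ⟶ Z) (w : B ⟶ C)
    (h : z ≫ pushout.inl g c = w ≫ pushout.inr g c) :
    ∃ (B' : A) (π : B' ⟶ B) (_ : Epi π) (u : B' ⟶ P), π ≫ z = u ≫ g ∧ π ≫ w = u ≫ c := by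
  have hs := (IsPushout.of_hasPushout g c).exact_shortComplex
  obtain ⟨B', π, hπ, u, hu⟩ := hs.exact_up_to_refinements (biprod.lift z (-w))
    (by
      change biprod.lift z (-w) ≫ biprod.desc (pushout.inl g c) (pushout.inr g c) = 0
      rw [biprod.lift_desc, Preadditive.neg_comp, h, add_neg_cancel])
  replace hu : π ≫ biprod.lift z (-w) = u ≫ biprod.lift g (-c) := hu
  refine ⟨B', π, hπ, u, ?_, ?_⟩
  · have := congrArg (· ≫ biprod.fst) hu
    simp only [Category.assoc] at this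
    erw [biprod.lift_fst, biprod.lift_fst] at this
    exact this
  · have := congrArg (· ≫ biprod.snd) hu
    simp only [Category.assoc] at this
    erw [biprod.lift_snd, biprod.lift_snd] at this
    erw [Preadditive.comp_neg, Preadditive.comp_neg] at this
    exact neg_injective this

variable (K : CochainComplex A ℤ)

/-- The data constructed in degree `n`. -/
structure St (n : ℤ) where
  Y : A'
  inj : Injective (ι.obj Y)
  C : A
  ess : ι.essImage C
  p : ι.obj Y ⟶ C
  epi : Epi p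
  f : K.X n ⟶ ι.obj Y
  c : K.opcycles n ⟶ C
  comm : K.pOpcycles n ≫ c = f ≫ p

variable {ι K}

/-- The relation between the data in two consecutive degrees. -/
def Link {i j : ℤ} (T : St ι K i) (T' : St ι K j) : Prop :=
  ∃ δ : T.C ⟶ ι.obj T'.Y, δ ≫ T'.p = 0 ∧
    (∀ ⦃B : A⦄ (x : B ⟶ ι.obj T'.Y), x ≫ T'.p = 0 →
      ∃ (B' : A) (π : B' ⟶ B) (_ : Epi π) (w : B' ⟶ T.C), π ≫ x = w ≫ δ) ∧
    T.f ≫ T.p ≫ δ = K.d i j ≫ T'.f ∧
    (∀ ⦃B : A⦄ (y : B ⟶ T.C), y ≫ δ = 0 →
      ∃ (B' : A) (π : B' ⟶ B) (_ : Epi π) (z : B' ⟶ K.homology i),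
        π ≫ y = z ≫ K.homologyι i ≫ T.c) ∧
    ∀ ⦃B : A⦄ (z : B ⟶ K.cycles j) (w : B ⟶ T.C), z ≫ K.iCycles j ≫ T'.f = w ≫ δ →
      ∃ (B' : A) (π : B' ⟶ B) (_ : Epi π) (x : B' ⟶ K.X i), π ≫ z = x ≫ K.toCycles i j

variable (hext : ∀ S : ShortComplex A, S.ShortExact → ι.essImage S.X₁ → ι.essImage S.X₃ →
    ι.essImage S.X₂)
  (hinj : ∀ X' : A', ∃ (Y' : A') (i : X' ⟶ Y'), Mono i ∧ Injective (ι.obj Y'))
  (hH : ∀ i, ι.essImage (K.homology i))

include hext hinj hH in
theorem exists_next {i : ℤ} (T : St ι K i) (j : ℤ) (hij : i + 1 = j) :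
    ∃ T' : St ι K j, Link T T' := by
  let g := K.opcyclesToCycles i j
  let h : pushout g T.c ⟶ K.homology j :=
    pushout.desc (K.homologyπ j) 0 (by simp [g])
  have : Epi h := epi_of_epi_fac (pushout.inl_desc (K.homologyπ j) 0 (by simp [g]))
  let q : T.C ⟶ kernel h := kernel.lift h (pushout.inr g T.c) (pushout.inr_desc _ _ _)
  have hq : ∀ ⦃B : A⦄ (y : B ⟶ T.C), y ≫ pushout.inr g T.c = 0 →
      ∃ (B' : A) (π : B' ⟶ B) (_ : Epi π) (z : B' ⟶ K.homology i),
        π ≫ y = z ≫ K.homologyι i ≫ T.c := by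
    intro B y hy
    obtain ⟨B', π, hπ, u, hu, hu'⟩ := eq_inl_inr g T.c (0 : B ⟶ _) y (by simp [hy])
    rw [comp_zero] at hu
    have hu0 : u ≫ K.fromOpcycles i j = 0 := by
      rw [← K.opcyclesToCycles_iCycles, ← Category.assoc]
      simp [g] at hu
      rw [← hu, zero_comp]
    obtain ⟨z, hz⟩ := KernelFork.IsLimit.lift'
      (K.homologyIsKernel i j ((ComplexShape.up ℤ).next_eq' hij)) u hu0
    refine ⟨B', π, hπ, z, ?_⟩
    rw [hu', ← hz]
    simp
  have hcyc : ∀ ⦃B : A⦄ (z : B ⟶ K.cycles j), z ≫ K.homologyπ j = 0 →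
      ∃ (B' : A) (π : B' ⟶ B) (_ : Epi π) (x : B' ⟶ K.X i), π ≫ z = x ≫ K.toCycles i j :=
    fun B z hz => (CokernelCofork.IsColimit.comp_π_eq_zero_iff_up_to_refinements
      (K.homologyIsCokernel i j ((ComplexShape.up ℤ).prev_eq' hij)) z).1 hz
  have hS1 : (ShortComplex.mk (K.homologyι i ≫ T.c) q (by
      rw [← cancel_mono (kernel.ι h), zero_comp, Category.assoc, kernel.lift_ι, Category.assoc,
        ← pushout.condition]
      simp [g])).Exact := by
    rw [ShortComplex.exact_iff_exact_up_to_refinements]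
    intro B y hy
    refine hq y ?_
    simpa [q] using congrArg (· ≫ kernel.ι h) hy
  have : Epi q := by
    rw [epi_iff_surjective_up_to_refinements]
    intro B x
    obtain ⟨B₁, π₁, hπ₁, a, b, hab⟩ :=
      (IsPushout.of_hasPushout g T.c).hom_eq_add_up_to_refinements (x ≫ kernel.ι h)
    have ha : a ≫ K.homologyπ j = 0 := by
      have := congrArg (· ≫ h) hab
      simp only [Category.assoc, kernel.condition, comp_zero, Preadditive.add_comp] at this
      rw [pushout.inl_desc, pushout.inr_desc, comp_zero, add_zero] at this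
      exact this.symm
    obtain ⟨B₂, π₂, hπ₂, e, he⟩ := hcyc a ha
    refine ⟨B₂, π₂ ≫ π₁, inferInstance, e ≫ K.pOpcycles i ≫ T.c + π₂ ≫ b, ?_⟩
    rw [← cancel_mono (kernel.ι h)]
    simp only [Category.assoc, Preadditive.add_comp, hab, Preadditive.comp_add, q, kernel.lift_ι,
      reassoc_of% he, ← pushout.condition, g, K.pOpcycles_opcyclesToCycles_assoc]
  have hker : ι.essImage (kernel h) := ι.essImage.prop_of_iso
    ((cokernelIsCokernel _).coconePointUniqueUpToIso hS1.gIsCokernel)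
    (essImage_cokernel ι (K.homologyι i ≫ T.c) (hH i) T.ess)
  have hW : ι.essImage (pushout g T.c) :=
    hext (ShortComplex.mk (kernel.ι h) h (kernel.condition h))
      { exact := ShortComplex.exact_of_f_is_kernel _ (kernelIsKernel h) } hker (hH j)
  obtain ⟨W', ⟨eW⟩⟩ := hW
  obtain ⟨Y, m, hm, hY⟩ := hinj W'
  let e : pushout g T.c ⟶ ι.obj Y := eW.inv ≫ ι.map m
  let f' : K.X j ⟶ ι.obj Y := Injective.factorThru (pushout.inl g T.c ≫ e) (K.iCycles j)
  have hf' : K.iCycles j ≫ f' = pushout.inl g T.c ≫ e := Injective.comp_factorThru _ _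
  let δ : T.C ⟶ ι.obj Y := pushout.inr g T.c ≫ e
  have hd : K.d i j ≫ f' = K.pOpcycles i ≫ T.c ≫ δ := by
    rw [← K.toCycles_i i j, Category.assoc, hf', ← K.pOpcycles_opcyclesToCycles i j,
      Category.assoc, pushout.condition_assoc]
  refine ⟨⟨Y, hY, cokernel δ, essImage_cokernel ι δ T.ess (ι.obj_mem_essImage Y), cokernel.π δ,
    inferInstance, f', K.descOpcycles (f' ≫ cokernel.π δ) i ((ComplexShape.up ℤ).prev_eq' hij)
      (by rw [reassoc_of% hd, cokernel.condition, comp_zero, comp_zero]), by simp⟩,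
    δ, cokernel.condition δ, ?_, ?_, ?_, ?_⟩
  · exact fun B x hx =>
      (CokernelCofork.IsColimit.comp_π_eq_zero_iff_up_to_refinements (cokernelIsCokernel δ) x).1 hx
  · rw [← reassoc_of% T.comm]
    exact hd.symm
  · intro B y hy
    refine hq y ?_
    rw [← cancel_mono e]
    simpa [δ] using hy
  · intro B z w hzw
    dsimp at hzw
    rw [hf'] at hzw
    have hzw' : z ≫ pushout.inl g T.c = w ≫ pushout.inr g T.c := by
      rw [← cancel_mono e]
      simpa [δ] using hzw
    obtain ⟨B₁, π₁, hπ₁, u, hu, -⟩ := eq_inl_inr g T.c z w hzw'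
    obtain ⟨B₂, π₂, hπ₂, x, hx⟩ := surjective_up_to_refinements_of_epi (K.pOpcycles i) u
    refine ⟨B₂, π₂ ≫ π₁, inferInstance, x, ?_⟩
    rw [Category.assoc, hu, reassoc_of% hx]
    simp [g]

variable (a : ℤ) [K.IsStrictlyGE a]

variable (ι K) in
/-- The data below `a`. -/
noncomputable def zeroSt (n : ℤ) : St ι K n where
  Y := 0
  inj := (ι.map_isZero (isZero_zero A')).injective
  C := ι.obj 0
  ess := ι.obj_mem_essImage 0
  p := 𝟙 _
  epi := inferInstance
  f := 0
  c := 0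
  comm := by simp

/-- The recursion. -/
noncomputable def R (n : ℤ) : St ι K n :=
  if n < a then zeroSt ι K n
  else (exists_next hext hinj hH (R (n - 1)) n (by omega)).choose
termination_by (n - a + 1).toNat
decreasing_by omega

theorem link (n : ℤ) : Link (R hext hinj hH a n) (R hext hinj hH a (n + 1)) := by
  by_cases h : n + 1 < a
  · rw [R, if_pos (show n < a by omega), R, if_pos h]
    have hz : IsZero (ι.obj (0 : A')) := ι.map_isZero (isZero_zero A')
    refine ⟨0, zero_comp, fun B x _ => ⟨B, 𝟙 _, inferInstance, 0, hz.eq_of_tgt _ _⟩,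
      hz.eq_of_tgt _ _, fun B y _ => ⟨B, 𝟙 _, inferInstance, 0, hz.eq_of_tgt _ _⟩,
      fun B z w _ => ⟨B, 𝟙 _, inferInstance, 0, ?_⟩⟩
    rw [← cancel_mono (K.iCycles (n + 1))]
    exact (K.isZero_of_isStrictlyGE a (n + 1) h).eq_of_tgt _ _
  · have key : ∀ (m : ℤ) (hm : m + 1 = n + 1), Link (R hext hinj hH a n)
        (exists_next hext hinj hH (R hext hinj hH a m) (n + 1) hm).choose := by
      intro m hm
      obtain rfl : m = n := by omega
      exact (exists_next hext hinj hH (R hext hinj hH a m) (m + 1) hm).choose_spec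
    conv => arg 2; rw [R, if_neg h]
    exact key _ (by omega)

include hext hinj hH in
theorem exists_resolution :
    ∃ (I : CochainComplex A' ℤ) (φ : K ⟶ (ι.mapHomologicalComplex _).obj I),
      I.IsStrictlyGE a ∧ (∀ n, Injective (ι.obj (I.X n))) ∧ QuasiIso φ := by
  let T : ∀ n, St ι K n := R hext hinj hH a
  choose δ h1 h2 h3 h4 h5 using link hext hinj hH a
  let d : ∀ n, (T n).Y ⟶ (T (n + 1)).Y := fun n => ι.preimage ((T n).p ≫ δ n)
  have hdd : ∀ n, d n ≫ d (n + 1) = 0 := fun n => ι.map_injective (by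
    simp [d, T, reassoc_of% (h1 n)])
  let I : CochainComplex A' ℤ := CochainComplex.of (fun n => (T n).Y) d hdd
  have hI : ∀ n, ι.map (I.d n (n + 1)) = (T n).p ≫ δ n := fun n => by simp [I, d]
  let φ : K ⟶ (ι.mapHomologicalComplex _).obj I :=
    { f := fun n => (T n).f
      comm' := fun i j hij => by
        obtain rfl : i + 1 = j := hij
        change _ ≫ ι.map (I.d i (i + 1)) = _
        rw [hI]
        exact h3 i }
  refine ⟨I, φ, ?_, fun n => (T n).inj, ⟨fun j => ?_⟩⟩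
  · rw [CochainComplex.isStrictlyGE_iff]
    intro i hi
    change IsZero (R hext hinj hH a i).Y
    rw [R, if_pos hi]
    exact isZero_zero A'
  obtain ⟨n, rfl⟩ : ∃ n, j = n + 1 := ⟨j - 1, by omega⟩
  rw [quasiIsoAt_iff_isIso_homologyMap]
  have := fun m => (T m).epi
  have : Mono (HomologicalComplex.homologyMap φ (n + 1)) := by
    rw [HomologicalComplex.mono_homologyMap_iff_up_to_refinements φ n (n + 1) (n + 1 + 1)
      (by simp) (by simp)]
    intro B x hx (y : B ⟶ ι.obj (T n).Y) hy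
    change x ≫ (T (n + 1)).f = y ≫ ι.map (I.d n (n + 1)) at hy
    rw [hI] at hy
    replace hy : x ≫ (T (n + 1)).f = (y ≫ (T n).p) ≫ δ n := hy.trans (Category.assoc _ _ _).symm
    obtain ⟨B', π, hπ, x₁, hx₁⟩ := h5 n (K.liftCycles x (n + 1 + 1) (by simp) hx)
      (y ≫ (T n).p) ((reassoc_of% (K.liftCycles_i x (n + 1 + 1) (by simp) hx)) _ |>.trans hy)
    refine ⟨B', π, hπ, x₁, ?_⟩
    simpa using congrArg (· ≫ K.iCycles (n + 1)) hx₁
  have : Epi (HomologicalComplex.homologyMap φ (n + 1)) := by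
    rw [HomologicalComplex.epi_homologyMap_iff_up_to_refinements φ n (n + 1) (n + 1 + 1)
      (by simp) (by simp)]
    intro B (y : B ⟶ ι.obj (T (n + 1)).Y) hy
    change y ≫ ι.map (I.d (n + 1) (n + 1 + 1)) = 0 at hy
    rw [hI] at hy
    replace hy : (y ≫ (T (n + 1)).p) ≫ δ (n + 1) = 0 := (Category.assoc _ _ _).trans hy
    obtain ⟨B₁, π₁, hπ₁, z, hz⟩ := h4 (n + 1) _ hy
    obtain ⟨B₂, π₂, hπ₂, x, hx⟩ := surjective_up_to_refinements_of_epi (K.homologyπ (n + 1)) z
    have hker : (π₂ ≫ π₁ ≫ y - (x ≫ K.iCycles (n + 1)) ≫ (T (n + 1)).f) ≫ (T (n + 1)).p = 0 := by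
      have hc := reassoc_of% hx
      simp only [T] at hz ⊢
      simp only [Preadditive.sub_comp, Category.assoc, hz, hc,
        HomologicalComplex.homology_π_ι_assoc, ← (R hext hinj hH a (n + 1)).comm, sub_self]
    obtain ⟨B₃, π₃, hπ₃, w, hw⟩ := h2 n _ hker
    obtain ⟨B₄, π₄, hπ₄, y₁, hy₁⟩ := surjective_up_to_refinements_of_epi (T n).p w
    refine ⟨B₄, π₄ ≫ π₃ ≫ π₂ ≫ π₁, inferInstance, π₄ ≫ π₃ ≫ x ≫ K.iCycles (n + 1),
      by simp, y₁, ?_⟩
    change (π₄ ≫ π₃ ≫ π₂ ≫ π₁) ≫ y =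
      (π₄ ≫ π₃ ≫ x ≫ K.iCycles (n + 1)) ≫ (T (n + 1)).f + y₁ ≫ ι.map (I.d n (n + 1))
    rw [hI]
    have h' : y₁ ≫ (T n).p ≫ δ n = π₄ ≫ π₃ ≫
        (π₂ ≫ π₁ ≫ y - (x ≫ K.iCycles (n + 1)) ≫ (T (n + 1)).f) :=
      ((Category.assoc _ _ _).symm.trans (congrArg (· ≫ δ n) hy₁.symm)).trans
        ((Category.assoc _ _ _).trans (congrArg (π₄ ≫ ·) hw.symm))
    refine Eq.trans ?_ (congrArg _ h'.symm)
    simp only [Preadditive.comp_sub, Category.assoc]
    exact (add_sub_cancel _ _).symm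
  exact isIso_of_mono_of_epi _

end GrothLib.CohDer19.EssRes
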