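import Mathlib.CategoryTheory.Abelian.GrothendieckCategory.EnoughInjectives
import Mathlib.CategoryTheory.Abelian.GrothendieckAxioms.Indization
import Mathlib.CategoryTheory.Preadditive.Injective.LiftingProperties
import Mathlib.Algebra.Homology.DerivedCategory.ShortExact
import Mathlib.Algebra.Homology.HomotopyCategory.MappingCocone
import Mathlib.Algebra.Homology.HomologicalComplexAbelian

/-!
Functorial hulls of cochain complexes: contractible envelopes and cocones of cokernels.
-/

set_option autoImplicit false
set_option backward.isDefEq.respectTransparency false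
set_option backward.defeqAttrib.useBackward true
universe w v u
open CategoryTheory CategoryTheory.Limits CochainComplex CochainComplex.HomComplex
open scoped ZeroObject

namespace GrothLib.CohDer19.Hull

section Emb

variable {A : Type u} [Category.{v} A] [Abelian A] [IsGrothendieckAbelian.{v} A]

noncomputable def toZeroArrow : A ⥤ Arrow A where
  obj X := Arrow.mk (0 : X ⟶ (0 : A))
  map f := Arrow.homMk f (𝟙 _) (by simp)

/-- The functorial factorization used to embed objects. -/
noncomputable abbrev injData :=
  MorphismProperty.functorialFactorizationData (MorphismProperty.monomorphisms A)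
    (MorphismProperty.monomorphisms A).rlp

/-- A functorial injective envelope. -/
noncomputable def injFunctor : A ⥤ A := toZeroArrow ⋙ (injData (A := A)).Z

/-- The embedding into the functorial injective envelope. -/
noncomputable def injι : 𝟭 A ⟶ injFunctor (A := A) where
  app X := (injData (A := A)).i.app (toZeroArrow.obj X)
  naturality _ _ f := (injData (A := A)).i.naturality (toZeroArrow.map f)

instance mono_injι (X : A) : Mono ((injι (A := A)).app X) := (injData (A := A)).hi _

instance injective_injFunctor (X : A) : Injective ((injFunctor (A := A)).obj X) := by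
  rw [injective_iff_rlp_monomorphisms_zero]
  have h := (injData (A := A)).hp (toZeroArrow.obj X)
  have e : (injData (A := A)).p.app (toZeroArrow.obj X) =
      (0 : (injFunctor (A := A)).obj X ⟶ (0 : A)) := (isZero_zero A).eq_of_tgt _ _
  exact e ▸ h

end Emb

section CoconeMap

variable {A : Type u} [Category.{v} A] [Abelian A] {K L K' L' : CochainComplex A ℤ}
  {φ : K ⟶ L} {φ' : K' ⟶ L'}

/-- Functoriality of cocones. -/
noncomputable def coconeMap (a : K ⟶ K') (b : L ⟶ L') (comm : φ ≫ b = a ≫ φ') :
    mappingCocone φ ⟶ mappingCocone φ' :=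
  (CategoryTheory.shiftFunctor _ (-1 : ℤ)).map (mappingCone.map φ φ' a b comm)

variable (a : K ⟶ K') (b : L ⟶ L') (comm : φ ≫ b = a ≫ φ')

lemma coneMap_fst (p q : ℤ) (h : p + 1 = q) :
    (mappingCone.map φ φ' a b comm).f p ≫ (mappingCone.fst φ').1.v p q h =
      (mappingCone.fst φ).1.v p q h ≫ a.f q := by
  simp [mappingCone.map, mappingCone.ext_from_iff _ q p h]

lemma coneMap_snd (p : ℤ) :
    (mappingCone.map φ φ' a b comm).f p ≫ (mappingCone.snd φ').v p p (add_zero p) =
      (mappingCone.snd φ).v p p (add_zero p) ≫ b.f p := by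
  simp [mappingCone.map, mappingCone.ext_from_iff _ (p + 1) p rfl]

lemma coconeMap_fst (n : ℤ) :
    (coconeMap a b comm).f n ≫ (mappingCocone.fst φ').f n = (mappingCocone.fst φ).f n ≫ a.f n := by
  simp [coconeMap, mappingCocone.fst,
    Cochain.leftShift_v (n := 1) _ _ _ _ _ n _ (n + -1) (by lia)]
  exact coneMap_fst a b comm _ _ _

lemma coconeMap_snd (n k : ℤ) (h : n + -1 = k) :
    (coconeMap a b comm).f n ≫ (mappingCocone.snd φ').v n k h =
      (mappingCocone.snd φ).v n k h ≫ b.f k := by
  subst h
  simp [coconeMap, mappingCocone.snd,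
    Cochain.leftShift_v (n := 0) _ _ _ _ _ _ _ _ (add_zero (n + -1))]
  exact coneMap_snd a b comm _

lemma inl_coconeMap (n : ℤ) :
    (mappingCocone.inl φ).v n n (add_zero n) ≫ (coconeMap a b comm).f n =
      a.f n ≫ (mappingCocone.inl φ').v n n (add_zero n) := by
  rw [← cancel_mono (𝟙 ((mappingCocone φ').X n)), ← mappingCocone.id_X φ' n (n + -1) rfl]
  simp [reassoc_of% (coconeMap_fst a b comm n), reassoc_of% (coconeMap_snd a b comm n _ rfl)]

lemma inr_coconeMap (p n : ℤ) (h : p + 1 = n) :
    (mappingCocone.inr φ).1.v p n h ≫ (coconeMap a b comm).f n =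
      b.f p ≫ (mappingCocone.inr φ').1.v p n h := by
  obtain rfl : p = n + -1 := by lia
  rw [← cancel_mono (𝟙 ((mappingCocone φ').X n)), ← mappingCocone.id_X φ' n (n + -1) rfl]
  simp [reassoc_of% (coconeMap_fst a b comm n), reassoc_of% (coconeMap_snd a b comm n _ rfl)]

end CoconeMap


section

variable {A : Type u} [Category.{v} A] [Abelian A] (J : A ⥤ A) (e : 𝟭 A ⟶ J)

/-- The complex with zero differential with terms `J (M^n)`. -/
@[simps]
noncomputable def zeroDiff (M : CochainComplex A ℤ) : CochainComplex A ℤ where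
  X n := J.obj (M.X n)
  d _ _ := 0

/-- Functoriality of `zeroDiff`. -/
@[simps]
noncomputable def zeroDiffMap {M M' : CochainComplex A ℤ} (f : M ⟶ M') :
    zeroDiff J M ⟶ zeroDiff J M' where
  f n := J.map (f.f n)

/-- The contractible complex into which `M` is embedded. -/
noncomputable abbrev env (M : CochainComplex A ℤ) : CochainComplex A ℤ :=
  mappingCone (𝟙 (zeroDiff J M))

/-- The embedding into `env`. -/
noncomputable def envι (M : CochainComplex A ℤ) : M ⟶ env J M :=
  mappingCone.lift _
    (Cocycle.mk (Cochain.mk (fun p q _ => M.d p q ≫ e.app _)) 2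
      (by lia) (by
        ext p q hpq
        simp [δ_v 1 2 (by lia) _ p q hpq (p + 1) (p + 1) (by lia) rfl]))
    (Cochain.ofHoms (fun n => e.app (M.X n))) (by
      ext p q hpq
      simp [δ_v 0 1 (by lia) _ p q hpq (q - 1) (p + 1) (by lia) rfl])

/-- Functoriality of `env`. -/
noncomputable def envMap {M M' : CochainComplex A ℤ} (f : M ⟶ M') : env J M ⟶ env J M' :=
  mappingCone.map _ _ (zeroDiffMap J f) (zeroDiffMap J f) (by simp)

lemma envι_f_snd (M : CochainComplex A ℤ) (n : ℤ) :
    (envι J e M).f n ≫ (mappingCone.snd (𝟙 (zeroDiff J M))).v n n (add_zero n) = e.app (M.X n) := by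
  simp [envι]

lemma mono_envι_f [∀ X, Mono (e.app X)] (M : CochainComplex A ℤ) (n : ℤ) :
    Mono ((envι J e M).f n) :=
  have := mono_of_mono_fac (envι_f_snd J e M n); this

lemma injective_env [∀ X, Injective (J.obj X)] (M : CochainComplex A ℤ) (n : ℤ) :
    Injective ((env J M).X n) :=
  have : ∀ k, Injective ((zeroDiff J M).X k) := fun k => inferInstanceAs (Injective (J.obj _))
  Injective.of_iso (HomologicalComplex.homotopyCofiber.XIsoBiprod (𝟙 (zeroDiff J M)) n (n + 1) rfl).symm
    inferInstance

lemma envι_naturality {M M' : CochainComplex A ℤ} (f : M ⟶ M') :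
    f ≫ envι J e M' = envι J e M ≫ envMap J f := by
  ext n
  have hn : ∀ k, f.f k ≫ e.app (M'.X k) = e.app (M.X k) ≫ J.map (f.f k) := fun k => e.naturality _
  rw [mappingCone.ext_to_iff _ n (n + 1) rfl]
  constructor
  · simp [envι, envMap, mappingCone.map, mappingCone.lift_f _ _ _ _ _ _ (rfl : n + 1 = n + 1)]
    exact congrArg _ (hn _)
  · simp [envι, envMap, mappingCone.map, mappingCone.lift_f _ _ _ _ _ _ (rfl : n + 1 = n + 1)]
    exact hn _

/-- The cocone of the projection to the cokernel of the envelope. -/
noncomputable abbrev coconeProj (M : CochainComplex A ℤ) :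
    env J M ⟶ cokernel (envι J e M) :=
  cokernel.π (envι J e M)

/-- The hull. -/
noncomputable def hull : CochainComplex A ℤ ⥤ CochainComplex A ℤ where
  obj M := mappingCocone (coconeProj J e M)
  map {M M'} f := coconeMap (envMap J f)
    (cokernel.map _ _ f (envMap J f) (envι_naturality J e f).symm) (by simp)
  map_id M := by
    refine (congrArg (CategoryTheory.shiftFunctor _ (-1 : ℤ)).map ?_).trans
      (CategoryTheory.Functor.map_id _ _)
    have h : envMap J (𝟙 M) = 𝟙 _ := by
      have : zeroDiffMap J (𝟙 M) = 𝟙 _ := by ext; simp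
      rw [← mappingCone.map_id]
      simp only [envMap, this]
    rw [← mappingCone.map_id]
    congr 1
    refine (cancel_epi (cokernel.π _)).1 ?_
    simp [h]
  map_comp {M M' M''} f g := by
    refine (congrArg (CategoryTheory.shiftFunctor _ (-1 : ℤ)).map ?_).trans
      (CategoryTheory.Functor.map_comp _ _ _)
    have h : envMap J (f ≫ g) = envMap J f ≫ envMap J g := by
      have : zeroDiffMap J (f ≫ g) = zeroDiffMap J f ≫ zeroDiffMap J g := by ext; simp
      simp only [envMap, this]
      exact mappingCone.map_comp _ _ _ _ _ (by simp) _ _ (by simp)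
    rw [← mappingCone.map_comp]
    congr 1
    refine (cancel_epi (cokernel.π _)).1 ?_
    simp [h]

/-- The embedding into the hull. -/
noncomputable def hullι (M : CochainComplex A ℤ) : M ⟶ (hull J e).obj M :=
  mappingCocone.lift _ (envι J e M) 0 (by simp)

lemma hullι_f (M : CochainComplex A ℤ) (n : ℤ) :
    (hullι J e M).f n =
      (envι J e M).f n ≫ (mappingCocone.inl (coconeProj J e M)).v n n (add_zero n) := by
  change (mappingCocone.lift (coconeProj J e M) (envι J e M) 0 (by simp)).f n = _
  rw [← cancel_mono (𝟙 ((mappingCocone (coconeProj J e M)).X n)),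
    ← mappingCocone.id_X (coconeProj J e M) n (n + -1) rfl]
  simp

end

section Quot

variable {A : Type u} [Category.{v} A] [Abelian A] {M D R : CochainComplex A ℤ} {i : M ⟶ D}
  {π : D ⟶ R}

/-- The projection between cocones. -/
noncomputable def projCocone (π : D ⟶ R) : mappingCocone π ⟶ mappingCocone (𝟙 R) :=
  coconeMap π (𝟙 R) rfl

lemma projCocone_fst (n : ℤ) :
    (projCocone π).f n ≫ (mappingCocone.fst (𝟙 R)).f n = (mappingCocone.fst π).f n ≫ π.f n :=
  coconeMap_fst _ _ _ n

lemma projCocone_snd (n k : ℤ) (h : n + -1 = k) :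
    (projCocone π).f n ≫ (mappingCocone.snd (𝟙 R)).v n k h = (mappingCocone.snd π).v n k h := by
  rw [projCocone, coconeMap_snd]
  simp

lemma inl_projCocone (n : ℤ) :
    (mappingCocone.inl π).v n n (add_zero n) ≫ (projCocone π).f n =
      π.f n ≫ (mappingCocone.inl (𝟙 R)).v n n (add_zero n) :=
  inl_coconeMap _ _ _ n

lemma inr_projCocone (p n : ℤ) (h : p + 1 = n) :
    (mappingCocone.inr π).1.v p n h ≫ (projCocone π).f n =
      (mappingCocone.inr (𝟙 R)).1.v p n h := by
  rw [projCocone, inr_coconeMap]
  simp

/-- For a short exact sequence `M → D → R` with `D` contractible, `M → cocone π` is a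
quasi-isomorphism. -/
lemma quasiIso_lift (w : i ≫ π = 0) (hS : (ShortComplex.mk i π w).ShortExact) :
    QuasiIso (mappingCocone.lift π i 0 (by simp [w])) := by
  letI := HasDerivedCategory.standard A
  let j := mappingCocone.lift π i 0 (by simp [w])
  have hn : ∀ n, (ShortComplex.mk (i.f n) (π.f n)
      (by rw [← HomologicalComplex.comp_f, w]; rfl)).ShortExact := fun n =>
    hS.map_of_exact (HomologicalComplex.eval A (ComplexShape.up ℤ) n)
  have wq : j ≫ projCocone π = 0 := by
    ext n
    rw [← cancel_mono (𝟙 ((mappingCocone (𝟙 R)).X n)), ← mappingCocone.id_X (𝟙 R) n (n + -1) rfl]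
    have hz : i.f n ≫ π.f n = 0 := by rw [← HomologicalComplex.comp_f, w]; rfl
    simp [j, reassoc_of% (projCocone_fst (π := π) n),
      reassoc_of% (projCocone_snd (π := π) n _ rfl), reassoc_of% hz]
  have hT : (ShortComplex.mk j (projCocone π) wq).ShortExact := by
    refine HomologicalComplex.shortExact_of_degreewise_shortExact _ fun n => ?_
    have hjfst : j.f n ≫ (mappingCocone.fst π).f n = i.f n := by simp [j]
    have := (hn n).mono_f
    have := (hn n).epi_g
    have : Mono (j.f n) := mono_of_mono_fac hjfst
    have : Epi ((projCocone π).f n) := by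
      refine Preadditive.epi_of_cancel_zero _ fun {Z} g hg => ?_
      rw [← cancel_epi (𝟙 ((mappingCocone (𝟙 R)).X n)), ← mappingCocone.id_X (𝟙 R) n (n + -1) rfl]
      have h1 : (mappingCocone.inl (𝟙 R)).v n n (add_zero n) ≫ g = 0 := by
        rw [← cancel_epi (π.f n), ← reassoc_of% (inl_projCocone (π := π) n)]
        simp [hg]
      have h2 : (mappingCocone.inr (𝟙 R)).1.v (n + -1) n (by lia) ≫ g = 0 := by
        rw [← inr_projCocone (π := π), Category.assoc, hg, comp_zero]
      simp [h1, h2]
    have : Mono ((ShortComplex.mk j (projCocone π) wq).map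
        (HomologicalComplex.eval A (ComplexShape.up ℤ) n)).f := inferInstanceAs (Mono (j.f n))
    refine ShortComplex.ShortExact.mk' ?_ (by assumption : Mono (j.f n)) (by assumption : Epi ((projCocone π).f n))
    refine ShortComplex.exact_of_f_is_kernel _ (KernelFork.IsLimit.ofι' _ _ fun {W} k hk => ?_)
    replace hk : k ≫ (projCocone π).f n = 0 := hk
    have h1 : (k ≫ (mappingCocone.fst π).f n) ≫ π.f n = 0 := by
      rw [Category.assoc, ← projCocone_fst, reassoc_of% hk, zero_comp]
    have h2 : k ≫ (mappingCocone.snd π).v n (n + -1) rfl = 0 := by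
      rw [← projCocone_snd, reassoc_of% hk, zero_comp]
    obtain ⟨l, hl⟩ : {l : W ⟶ M.X n // l ≫ i.f n = k ≫ (mappingCocone.fst π).f n} :=
      ⟨(hn n).exact.lift _ h1, (hn n).exact.lift_f _ h1⟩
    refine ⟨l, ?_⟩
    change l ≫ j.f n = k
    rw [← cancel_mono (𝟙 ((mappingCocone π).X n)), ← mappingCocone.id_X π n (n + -1) rfl]
    simp [j, reassoc_of% hl, reassoc_of% h2]
  have h := DerivedCategory.triangleOfSES_distinguished hT
  have hP : IsZero (DerivedCategory.Q.obj (mappingCocone (𝟙 R))) :=
    (Pretriangulated.Triangle.isZero₁_iff_isIso₂ _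
      (DerivedCategory.mappingCocone_triangle_distinguished (𝟙 R))).2
      (inferInstanceAs (IsIso (DerivedCategory.Q.map (𝟙 R))))
  rw [← DerivedCategory.isIso_Q_map_iff_quasiIso]
  exact (Pretriangulated.Triangle.isZero₃_iff_isIso₁ _ h).1 hP

end Quot

section

variable {A : Type u} [Category.{v} A] [Abelian A] (J : A ⥤ A) (e : 𝟭 A ⟶ J)

/-- The hull as a natural transformation. -/
noncomputable def hullNat : 𝟭 _ ⟶ hull J e where
  app M := hullι J e M
  naturality M M' f := by
    ext n
    have h := HomologicalComplex.congr_hom (envι_naturality J e f) n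
    simp only [HomologicalComplex.comp_f] at h
    change f.f n ≫ (hullι J e M').f n = (hullι J e M).f n ≫ (coconeMap _ _ _).f n
    rw [hullι_f, hullι_f, Category.assoc, inl_coconeMap, reassoc_of% h]

lemma quasiIso_hullι [∀ X, Mono (e.app X)] (M : CochainComplex A ℤ) : QuasiIso (hullι J e M) := by
  have : ∀ n, Mono ((envι J e M).f n) := mono_envι_f J e M
  have : Mono (envι J e M) := HomologicalComplex.mono_of_mono_f _ this
  exact quasiIso_lift (cokernel.condition _)
    { exact := ShortComplex.exact_of_g_is_cokernel _ (cokernelIsCokernel _) }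

end

end GrothLib.CohDer19.Hull
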