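import Mathlib.Algebra.Homology.Refinements
import Mathlib.Algebra.Homology.QuasiIso
import Mathlib.Algebra.Homology.HomologicalComplexAbelian
import Mathlib.Algebra.Homology.Embedding.CochainComplex
import Mathlib.Algebra.Homology.HomotopyCategory.KInjective

/-!
Left resolutions, termwise epimorphic, of a bounded above complex by objects in a class `P` of
which every object is a quotient (no closure properties of `P` are needed besides a zero object).
-/

set_option autoImplicit false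
universe v u
open CategoryTheory CategoryTheory.Limits

namespace GrothLib.CohDer19.LeftRes

variable {A : Type u} [Category.{v} A] [Abelian A] (P : A → Prop)
  (hP0 : ∃ Z : A, IsZero Z ∧ P Z) (hP : ∀ X : A, ∃ (Y : A) (π : Y ⟶ X), P Y ∧ Epi π)

include hP0 hP in
/-- A chosen cover, zero on zero objects. -/
theorem exists_cover (W : A) :
    ∃ (Y : A) (π : Y ⟶ W), P Y ∧ Epi π ∧ (IsZero W → IsZero Y) := by
  classical
  by_cases h : IsZero W
  · obtain ⟨Z, hZ, hPZ⟩ := hP0
    exact ⟨Z, 0, hPZ, ⟨fun _ _ _ => h.eq_of_src _ _⟩, fun _ => hZ⟩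
  · obtain ⟨Y, π, h₁, h₂⟩ := hP W
    exact ⟨Y, π, h₁, h₂, fun h' => absurd h' h⟩

variable (K : CochainComplex A ℤ)

/-- The cocycles already constructed. -/
structure St (n : ℤ) where
  C : A
  c : C ⟶ K.cycles n
  epi : Epi c

attribute [instance] St.epi

variable (cov : ∀ W : A, A) (cp : ∀ W, cov W ⟶ W) (hcp : ∀ W, Epi (cp W))

variable {K}

noncomputable abbrev W {n : ℤ} (T : St K (n + 1)) : A := pullback (K.toCycles n (n + 1)) T.c
noncomputable abbrev X {n : ℤ} (T : St K (n + 1)) : A := cov (W T)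
noncomputable abbrev α {n : ℤ} (T : St K (n + 1)) : X cov T ⟶ K.X n := cp _ ≫ pullback.fst _ _
noncomputable abbrev dd {n : ℤ} (T : St K (n + 1)) : X cov T ⟶ T.C := cp _ ≫ pullback.snd _ _

lemma α_toCycles {n : ℤ} (T : St K (n + 1)) :
    α cov cp T ≫ K.toCycles n (n + 1) = dd cov cp T ≫ T.c := by
  simp [α, dd, pullback.condition]

lemma α_d {n : ℤ} (T : St K (n + 1)) :
    α cov cp T ≫ K.d n (n + 1) = dd cov cp T ≫ T.c ≫ K.iCycles (n + 1) := by
  rw [← K.toCycles_i n (n + 1), ← Category.assoc, α_toCycles, Category.assoc]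

include hcp in
lemma epi_α {n : ℤ} (T : St K (n + 1)) : Epi (α cov cp T) := by
  have := hcp (W T)
  infer_instance

noncomputable abbrev kerCycles {n : ℤ} (T : St K (n + 1)) :
    kernel (dd cov cp T) ⟶ K.cycles n :=
  K.liftCycles (kernel.ι (dd cov cp T) ≫ α cov cp T) (n + 1) (by simp) (by
    rw [Category.assoc, α_d, kernel.condition_assoc, zero_comp])

include hcp in
lemma epi_kerCycles {n : ℤ} (T : St K (n + 1)) : Epi (kerCycles cov cp T) := by
  have := hcp (W T)
  rw [epi_iff_surjective_up_to_refinements]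
  intro B z
  have hz : (z ≫ K.iCycles n) ≫ K.toCycles n (n + 1) = (0 : B ⟶ T.C) ≫ T.c := by
    rw [zero_comp, ← cancel_mono (K.iCycles (n + 1))]
    simp
  obtain ⟨B', π, hπ, x, hx⟩ := surjective_up_to_refinements_of_epi (cp (W T))
    (pullback.lift (z ≫ K.iCycles n) 0 hz)
  have h0 : x ≫ dd cov cp T = 0 := by
    have := congrArg (· ≫ pullback.snd _ _) hx
    simp only [Category.assoc] at this
    erw [pullback.lift_snd, comp_zero] at this
    simpa [dd] using this.symm
  refine ⟨B', π, hπ, kernel.lift _ x h0, ?_⟩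
  rw [← cancel_mono (K.iCycles n)]
  have := congrArg (· ≫ pullback.fst _ _) hx
  simp only [Category.assoc] at this
  erw [pullback.lift_fst] at this
  simpa [α] using this

noncomputable def step {n : ℤ} (T : St K (n + 1)) : St K n :=
  ⟨_, kerCycles cov cp T, epi_kerCycles cov cp hcp T⟩

variable (K) (a : ℤ) [hK : K.IsStrictlyLE a]

noncomputable def zeroSt (n : ℤ) (_ : a < n) : St K n where
  C := K.cycles n
  c := 𝟙 _
  epi := inferInstance

lemma isZero_cycles (n : ℤ) (hn : a < n) : IsZero (K.cycles n) := by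
  rw [IsZero.iff_id_eq_zero, ← cancel_mono (K.iCycles n)]
  exact (K.isZero_of_isStrictlyLE a n hn).eq_of_tgt _ _

noncomputable def R (n : ℤ) : St K n :=
  if h : a < n then zeroSt K a n h else step cov cp hcp (R (n + 1))
termination_by (a + 1 - n).toNat
decreasing_by omega

variable (hcz : ∀ W, IsZero W → IsZero (cov W))

include hcz in
lemma isZero_X_zeroSt (n : ℤ) (hn : a < n) : IsZero (X cov (R K cov cp hcp a (n + 1))) := by
  refine hcz _ ?_
  rw [R, dif_pos (by omega : a < n + 1)]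
  rw [IsZero.iff_id_eq_zero]
  apply pullback.hom_ext
  · exact (K.isZero_of_isStrictlyLE a n hn).eq_of_tgt _ _
  · exact (isZero_cycles K a (n + 1) (by omega)).eq_of_tgt _ _

include hcz in
lemma exists_link (n : ℤ) :
    ∃ ι : (R K cov cp hcp a (n + 1)).C ⟶ X cov (R K cov cp hcp a (n + 1 + 1)),
      ι ≫ dd cov cp (R K cov cp hcp a (n + 1 + 1)) = 0 ∧
      ι ≫ α cov cp (R K cov cp hcp a (n + 1 + 1)) =
        (R K cov cp hcp a (n + 1)).c ≫ K.iCycles (n + 1) ∧
      Mono ι ∧
      ∀ {B : A} (x : B ⟶ X cov (R K cov cp hcp a (n + 1 + 1))),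
        x ≫ dd cov cp (R K cov cp hcp a (n + 1 + 1)) = 0 → ∃ y, y ≫ ι = x := by
  by_cases h : a < n + 1
  · have hX := isZero_X_zeroSt K cov cp hcp a hcz (n + 1) h
    have hC : IsZero (R K cov cp hcp a (n + 1)).C := by
      rw [R, dif_pos h]
      exact isZero_cycles K a (n + 1) h
    exact ⟨0, zero_comp, hC.eq_of_src _ _, ⟨fun _ _ _ => hC.eq_of_tgt _ _⟩,
      fun x _ => ⟨0, hX.eq_of_tgt _ _⟩⟩
  · rw [show R K cov cp hcp a (n + 1) = step cov cp hcp (R K cov cp hcp a (n + 1 + 1)) by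
      conv_lhs => rw [R, dif_neg h]]
    generalize R K cov cp hcp a (n + 1 + 1) = S
    exact ⟨kernel.ι (dd cov cp S), kernel.condition _, (show _ = kerCycles cov cp S ≫ K.iCycles (n + 1) by simp [kerCycles] <;> rfl),
      equalizer.ι_mono,
      fun x hx => ⟨kernel.lift _ x hx, kernel.lift_ι _ _ _⟩⟩

variable {cov cp hcp a}

include hP0 hP in
omit hK in
theorem exists_resolution (a : ℤ) [K.IsStrictlyLE a] :
    ∃ (Q : CochainComplex A ℤ) (φ : Q ⟶ K),
      Q.IsStrictlyLE a ∧ (∀ n, P (Q.X n)) ∧ (∀ n, Epi (φ.f n)) ∧ QuasiIso φ := by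
  choose cov cp hPc hcp hcz using exists_cover P hP0 hP
  let T : ∀ n, St K (n + 1) := fun n => R K cov cp hcp a (n + 1)
  choose ι hι₁ hι₂ hι₃ hι₄ using exists_link K cov cp hcp a hcz
  let d : ∀ n, X cov (T n) ⟶ X cov (T (n + 1)) := fun n => dd cov cp (T n) ≫ ι n
  have hd : ∀ n, d n ≫ d (n + 1) = 0 := fun n => by
    simp only [d, T, Category.assoc, reassoc_of% (hι₁ n), zero_comp, comp_zero]
  let Q : CochainComplex A ℤ := CochainComplex.of (fun n => X cov (T n)) d hd
  let φ : Q ⟶ K :=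
    { f := fun n => α cov cp (T n)
      comm' := fun i j hij => by
        obtain rfl : i + 1 = j := hij
        dsimp only [Q]
        rw [α_d, CochainComplex.of_d]
        simp only [d, T, Category.assoc]
        rw [hι₂ i] }
  refine ⟨Q, φ, ?_, fun n => hPc _, fun n => epi_α cov cp hcp (T n), ?_⟩
  · rw [CochainComplex.isStrictlyLE_iff]
    exact fun i hi => isZero_X_zeroSt K cov cp hcp a hcz i hi
  refine ⟨fun j => ?_⟩
  obtain ⟨n, rfl⟩ : ∃ n, j = n + 1 := ⟨j - 1, by omega⟩
  rw [quasiIsoAt_iff_isIso_homologyMap]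
  have hker : ∀ {B : A} (x : B ⟶ Q.X (n + 1)), x ≫ Q.d (n + 1) (n + 1 + 1) = 0 →
      ∃ y, y ≫ ι n = x := fun x hx => hι₄ n x (by
    have : Mono (ι (n + 1)) := hι₃ _
    rw [← cancel_mono (ι (n + 1)), zero_comp, Category.assoc]
    simpa [Q, d, T] using hx)
  have : Mono (HomologicalComplex.homologyMap φ (n + 1)) := by
    rw [HomologicalComplex.mono_homologyMap_iff_up_to_refinements φ n (n + 1) (n + 1 + 1)
      (by simp) (by simp)]
    intro B x hx k hk
    obtain ⟨y, rfl⟩ := hker x hx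
    have he : k ≫ K.toCycles n (n + 1) = y ≫ (T n).c := by
      rw [← cancel_mono (K.iCycles (n + 1))]
      simpa [φ, T, hι₂ n] using hk.symm
    have := hcp (W (T n))
    obtain ⟨B', π, hπ, q, hq⟩ := surjective_up_to_refinements_of_epi (cp (W (T n)))
      (pullback.lift k y he)
    refine ⟨B', π, hπ, q, ?_⟩
    have h := congrArg (· ≫ pullback.snd _ _) hq
    simp only [Category.assoc, pullback.lift_snd] at h
    simp [Q, d, T, ← reassoc_of% h]
  have : Epi (HomologicalComplex.homologyMap φ (n + 1)) := by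
    rw [HomologicalComplex.epi_homologyMap_iff_up_to_refinements φ n (n + 1) (n + 1 + 1)
      (by simp) (by simp)]
    intro B z hz
    obtain ⟨B', π, hπ, y, hy⟩ := surjective_up_to_refinements_of_epi (T n).c
      (K.liftCycles z (n + 1 + 1) (by simp) hz)
    refine ⟨B', π, hπ, y ≫ ι n, ?_, 0, ?_⟩
    · simp [Q, d, T, reassoc_of% (hι₁ n)]
    · have := congrArg (· ≫ K.iCycles (n + 1)) hy
      simpa [φ, T, hι₂ n] using this
  exact isIso_of_mono_of_epi _

include hP0 hP in
omit hK in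
theorem exists_resolution_of_acyclic_above (a : ℤ) (hH : ∀ n : ℤ, a < n → IsZero (K.homology n)) :
    ∃ (Q : CochainComplex A ℤ) (φ : Q ⟶ K), Q.IsStrictlyLE a ∧ (∀ n, P (Q.X n)) ∧ QuasiIso φ := by
  have : K.IsLE a := (K.isLE_iff a).2 fun i hi =>
    (HomologicalComplex.exactAt_iff_isZero_homology _ _).2 (hH i hi)
  obtain ⟨Q, φ, h₁, h₂, -, h₃⟩ := exists_resolution P hP0 hP (K.truncLE a) a
  exact ⟨Q, φ ≫ K.ιTruncLE a, h₁, h₂, inferInstance⟩

end GrothLib.CohDer19.LeftRes
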