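import Groth.Agent.Lib.CohDer19.Unit
import Groth.Agent.Lib.GrothSS.Acyclic
import Mathlib.Algebra.Homology.DerivedCategory.KInjective

/-!
Leray acyclicity for the bounded below derived functor; quasi-isomorphisms of K-injective complexes.
-/

set_option autoImplicit false
universe w w' v v' u u'
open CategoryTheory CategoryTheory.Limits

namespace GrothLib.CohDer19

theorem leray {C : Type u} [Category.{v} C] [Abelian C] [HasDerivedCategory.{w} C] [EnoughInjectives C]
    {D : Type u'} [Category.{v'} D] [Abelian D] [HasDerivedCategory.{w'} D]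
    (F : C ⥤ D) [F.Additive] [PreservesFiniteLimits F] (K : CochainComplex.Plus C)
    (hK : ∀ (m : ℤ) (i : ℕ), 0 < i → IsZero ((F.rightDerived i).obj (K.obj.X m))) :
    IsIso (F.rightDerivedFunctorPlusUnit.app ((HomotopyCategory.Plus.quotient C).obj K)) := by
  obtain ⟨K, a, ha⟩ := K
  obtain ⟨L, hL, i, hi⟩ := CochainComplex.Plus.exists_quasiIso_injective
    (⟨K, a, ha⟩ : CochainComplex.Plus C) a
  let M := (InjectiveObject.ι C).mapCochainComplexPlus.obj L
  have : QuasiIso i.hom := hi
  have : M.obj.IsStrictlyGE a :=
    inferInstanceAs (CochainComplex.IsStrictlyGE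
      (((InjectiveObject.ι C).mapHomologicalComplex (ComplexShape.up ℤ)).obj L.obj) a)
  have hM : ∀ n, Injective (M.obj.X n) := fun n =>
    inferInstanceAs (Injective ((InjectiveObject.ι C).obj (L.obj.X n)))
  refine (isIso_unit_iff F i hM).2 ?_
  exact GrothLib.GrothSS.quasiIso_map F i.hom a (fun m k => hK m (k + 1) (by omega))
    (fun m => by
      have := hM m
      exact GrothLib.GrothSS.isAcyclicObj_of_injective F _)


/-- A quasi-isomorphism between K-injective complexes is invertible in the homotopy category. -/
theorem isIso_of_mem_quasiIso {C : Type u} [Category.{v} C] [Abelian C]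
    {K L : CochainComplex C ℤ} [K.IsKInjective] [L.IsKInjective]
    (s : (HomotopyCategory.quotient C (ComplexShape.up ℤ)).obj K ⟶
      (HomotopyCategory.quotient C (ComplexShape.up ℤ)).obj L)
    (hs : HomotopyCategory.quasiIso C (ComplexShape.up ℤ) s) : IsIso s := by
  let := HasDerivedCategory.standard C
  have := Localization.inverts DerivedCategory.Qh _ s hs
  obtain ⟨t, ht⟩ := (CochainComplex.IsKInjective.Qh_map_bijective
    ((HomotopyCategory.quotient C (ComplexShape.up ℤ)).obj L) K).2 (inv (DerivedCategory.Qh.map s))
  refine ⟨t, ?_, ?_⟩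
  · refine (CochainComplex.IsKInjective.Qh_map_bijective _ K).1 ?_
    simp [ht]
  · refine (CochainComplex.IsKInjective.Qh_map_bijective _ L).1 ?_
    simp [ht]

end GrothLib.CohDer19
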