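import Mathlib.CategoryTheory.Functor.Derived.RightDerived
import Mathlib.CategoryTheory.Localization.CalculusOfFractions

/-!
Right derived functors from resolutions (dual to `Lib/Derive/Left`).
-/

set_option autoImplicit false
universe v₁ v₂ v₃ u₁ u₂ u₃

open CategoryTheory

namespace GrothLib.CohDer19

variable {C : Type u₁} [Category.{v₁} C] {D : Type u₂} [Category.{v₂} D]
  {H : Type u₃} [Category.{v₃} H]

/-- The hypotheses under which a functor is right derived by resolutions. -/
structure RightResolvable (W : MorphismProperty C) (P : ObjectProperty C) (F : C ⥤ H) : Prop where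
  exists_res : ∀ X : C, ∃ (Q : C) (p : X ⟶ Q), P Q ∧ W p
  inverts : ∀ ⦃Q Q' : C⦄ (s : Q ⟶ Q'), P Q → P Q' → W s → IsIso (F.map s)

variable {W : MorphismProperty C} [W.HasLeftCalculusOfFractions] {P : ObjectProperty C} {F : C ⥤ H}

namespace RightResolvable

variable (h : RightResolvable W P F)

/-- The chosen resolution. -/
noncomputable def res (X : C) : C := (h.exists_res X).choose

/-- The map to the chosen resolution. -/
noncomputable def resι (X : C) : X ⟶ h.res X := (h.exists_res X).choose_spec.choose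

lemma res_mem (X : C) : P (h.res X) := (h.exists_res X).choose_spec.choose_spec.1

lemma resι_mem (X : C) : W (h.resι X) := (h.exists_res X).choose_spec.choose_spec.2

include h in
lemma mono_map {Q Q' : C} (s : Q ⟶ Q') (hQ : P Q) (hQ' : P Q') (hs : W s) : Mono (F.map s) :=
  have := h.inverts s hQ hQ' hs
  inferInstance

include h in
/-- Two maps equalised by a morphism of `W` have the same image. -/
lemma map_eq_of_comp_eq {Q Q' Y : C} (g₁ g₂ : Q ⟶ Q') (hQ' : P Q') (s : Y ⟶ Q) (hs : W s)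
    (e : s ≫ g₁ = s ≫ g₂) : F.map g₁ = F.map g₂ := by
  obtain ⟨Z, t, ht, htg⟩ := MorphismProperty.HasLeftCalculusOfFractions.ext g₁ g₂ s hs e
  obtain ⟨Q'', r, hQ'', hr⟩ := h.exists_res Z
  have := h.mono_map (t ≫ r) hQ' hQ'' (W.comp_mem _ _ ht hr)
  rw [← cancel_mono (F.map (t ≫ r)), ← F.map_comp, ← F.map_comp, reassoc_of% htg]

include h in
/-- Completing a span with a leg in `W` by a square ending in `P`. -/
lemma exists_square {A B Y : C} (f : Y ⟶ A) (w : Y ⟶ B) (hw : W w) :
    ∃ (Q : C) (t : A ⟶ Q) (k : B ⟶ Q), P Q ∧ W t ∧ f ≫ t = w ≫ k := by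
  obtain ⟨ψ, hψ⟩ := MorphismProperty.HasLeftCalculusOfFractions.exists_leftFraction
    (MorphismProperty.RightFraction.mk w hw f)
  obtain ⟨Q, r, hQ, hr⟩ := h.exists_res ψ.Y'
  exact ⟨Q, ψ.s ≫ r, ψ.f ≫ r, hQ, W.comp_mem _ _ ψ.hs hr, by
    simp only [← Category.assoc]
    exact congrArg (· ≫ r) hψ⟩

/-- `φ` is the value of the derived functor on `f`. -/
def IsMapOf {X Y : C} (f : X ⟶ Y) (φ : F.obj (h.res X) ⟶ F.obj (h.res Y)) : Prop :=
  ∀ (Q : C) (s : h.res Y ⟶ Q) (g : h.res X ⟶ Q), P Q → W s →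
    f ≫ h.resι Y ≫ s = h.resι X ≫ g → φ ≫ F.map s = F.map g

lemma exists_lift {X Y : C} (f : X ⟶ Y) :
    ∃ (Q : C) (s : h.res Y ⟶ Q) (g : h.res X ⟶ Q), P Q ∧ W s ∧ f ≫ h.resι Y ≫ s = h.resι X ≫ g := by
  obtain ⟨Q, t, k, hQ, ht, e⟩ := h.exists_square (f ≫ h.resι Y) (h.resι X) (h.resι_mem X)
  exact ⟨Q, t, k, hQ, ht, by rw [← Category.assoc, e]⟩

lemma exists_isMapOf {X Y : C} (f : X ⟶ Y) : ∃ φ, h.IsMapOf f φ := by
  obtain ⟨Q₀, s₀, g₀, hQ₀, hs₀, e₀⟩ := h.exists_lift f
  have := h.inverts s₀ (h.res_mem Y) hQ₀ hs₀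
  refine ⟨F.map g₀ ≫ inv (F.map s₀), fun Q s g hQ hs e => ?_⟩
  obtain ⟨Q', t, k, hQ', ht, htk⟩ := h.exists_square s s₀ hs₀
  have := h.mono_map t hQ hQ' ht
  rw [← cancel_mono (F.map t), Category.assoc, Category.assoc, ← F.map_comp s t, htk, F.map_comp,
    IsIso.inv_hom_id_assoc, ← F.map_comp, ← F.map_comp]
  refine h.map_eq_of_comp_eq _ _ hQ' (h.resι X) (h.resι_mem X) ?_
  rw [← reassoc_of% e₀, ← reassoc_of% e, htk]

lemma isMapOf_unique {X Y : C} {f : X ⟶ Y} {φ φ'} (hφ : h.IsMapOf f φ) (hφ' : h.IsMapOf f φ') :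
    φ = φ' := by
  obtain ⟨Q, s, g, hQ, hs, e⟩ := h.exists_lift f
  have := h.mono_map s (h.res_mem Y) hQ hs
  rw [← cancel_mono (F.map s), hφ Q s g hQ hs e, hφ' Q s g hQ hs e]

/-- The value of the derived functor on `f`. -/
noncomputable def Rmap {X Y : C} (f : X ⟶ Y) : F.obj (h.res X) ⟶ F.obj (h.res Y) :=
  (h.exists_isMapOf f).choose

lemma isMapOf_Rmap {X Y : C} (f : X ⟶ Y) : h.IsMapOf f (h.Rmap f) :=
  (h.exists_isMapOf f).choose_spec

/-- The derived functor, before descending to the localization. -/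
noncomputable def R : C ⥤ H where
  obj X := F.obj (h.res X)
  map f := h.Rmap f
  map_id X := by
    refine h.isMapOf_unique (h.isMapOf_Rmap _) fun Q s g hQ hs e => ?_
    rw [Category.id_comp] at e ⊢
    exact h.map_eq_of_comp_eq _ _ hQ _ (h.resι_mem X) e
  map_comp {X Y Z} f g := by
    obtain ⟨Q, s, k, hQ, hs, e⟩ := h.exists_lift f
    obtain ⟨Q₂, s₂, k₂, hQ₂, hs₂, e₂⟩ := h.exists_lift g
    obtain ⟨Q', t, l, hQ', ht, htl⟩ := h.exists_square k₂ s hs
    have := h.mono_map (s₂ ≫ t) (h.res_mem Z) hQ' (W.comp_mem _ _ hs₂ ht)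
    rw [← cancel_mono (F.map (s₂ ≫ t)),
      h.isMapOf_Rmap (f ≫ g) Q' (s₂ ≫ t) (k ≫ l) hQ' (W.comp_mem _ _ hs₂ ht) (by
        rw [Category.assoc, reassoc_of% e₂, htl, reassoc_of% e]),
      Category.assoc, F.map_comp s₂ t, reassoc_of% (h.isMapOf_Rmap g Q₂ s₂ k₂ hQ₂ hs₂ e₂),
      ← F.map_comp k₂ t, htl, F.map_comp s l, reassoc_of% (h.isMapOf_Rmap f Q s k hQ hs e),
      ← F.map_comp]

/-- The comparison with `F`. -/
noncomputable def Rι : F ⟶ h.R where
  app X := F.map (h.resι X)
  naturality X Y f := by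
    obtain ⟨Q, s, g, hQ, hs, e⟩ := h.exists_lift f
    have := h.mono_map s (h.res_mem Y) hQ hs
    change F.map f ≫ F.map (h.resι Y) = F.map (h.resι X) ≫ h.Rmap f
    rw [← cancel_mono (F.map s), Category.assoc, Category.assoc, h.isMapOf_Rmap f Q s g hQ hs e,
      ← F.map_comp, ← F.map_comp, ← F.map_comp, e]

lemma R_inverts : W.IsInvertedBy h.R := by
  intro X Y w hw
  obtain ⟨Q, s, g, hQ, hs, e⟩ := h.exists_lift w
  obtain ⟨Q', t, k, hQ', ht, e'⟩ := h.exists_square (h.resι X) (w ≫ h.resι Y)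
    (W.comp_mem _ _ hw (h.resι_mem Y))
  rw [Category.assoc] at e'
  have hφ : h.Rmap w ≫ F.map s = F.map g := h.isMapOf_Rmap w Q s g hQ hs e
  have := h.inverts s (h.res_mem Y) hQ hs
  have := h.inverts t (h.res_mem X) hQ' ht
  have : IsIso (F.map t) := this
  let ψ : F.obj (h.res Y) ⟶ F.obj (h.res X) := F.map k ≫ inv (F.map t)
  refine ⟨⟨ψ, ?_, ?_⟩⟩
  · obtain ⟨Q'', a, b, hQ'', ha, hab⟩ := h.exists_square k s hs
    have := h.mono_map a hQ' hQ'' ha
    have h1 : F.map (t ≫ a) = F.map (g ≫ b) :=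
      h.map_eq_of_comp_eq _ _ hQ'' (h.resι X) (h.resι_mem X)
        (by rw [reassoc_of% e', hab, reassoc_of% e])
    change h.Rmap w ≫ F.map k ≫ inv (F.map t) = 𝟙 (F.obj (h.res X))
    rw [← Category.assoc, IsIso.comp_inv_eq, Category.id_comp, ← cancel_mono (F.map a), Category.assoc,
      ← F.map_comp, hab, F.map_comp, reassoc_of% hφ, ← F.map_comp, ← h1, F.map_comp]
  · change (F.map k ≫ inv (F.map t)) ≫ h.Rmap w = 𝟙 (F.obj (h.res Y))
    obtain ⟨Q'', a, b, hQ'', ha, hab⟩ := h.exists_square g t ht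
    have := h.mono_map a hQ hQ'' ha
    have h1 : F.map (s ≫ a) = F.map (k ≫ b) :=
      h.map_eq_of_comp_eq _ _ hQ'' (w ≫ h.resι Y) (W.comp_mem _ _ hw (h.resι_mem Y))
        (by rw [Category.assoc, Category.assoc, reassoc_of% e, hab, reassoc_of% e'])
    rw [← cancel_mono (F.map s), ← cancel_mono (F.map a), Category.assoc, Category.assoc,
      Category.assoc, reassoc_of% hφ, ← F.map_comp g a, hab, F.map_comp, IsIso.inv_hom_id_assoc,
      ← F.map_comp, ← h1, F.map_comp]
    simp

variable (L : C ⥤ D) [L.IsLocalization W]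

/-- The right derived functor. -/
noncomputable def RF : D ⥤ H := Localization.lift h.R h.R_inverts L

/-- Its unit. -/
noncomputable def RFα : F ⟶ L ⋙ h.RF L :=
  h.Rι ≫ (Localization.fac h.R h.R_inverts L).inv

variable {L}

lemma isIso_RFα_app {Q : C} (hQ : P Q) : IsIso ((h.RFα L).app Q) := by
  have : IsIso (h.Rι.app Q) := h.inverts _ hQ (h.res_mem Q) (h.resι_mem Q)
  change IsIso (h.Rι.app Q ≫ (Localization.fac h.R h.R_inverts L).inv.app Q)
  infer_instance

include h in
/-- A comparison map which is invertible on `P` exhibits the right derived functor. -/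
theorem isLeftKanExtension (G : D ⥤ H) (α : F ⟶ L ⋙ G)
    (hα : ∀ Q, P Q → IsIso (α.app Q)) : G.IsLeftKanExtension α := by
  have hL : ∀ X, IsIso (L.map (h.resι X)) := fun X => Localization.inverts L W _ (h.resι_mem X)
  refine ⟨⟨Limits.IsInitial.ofUniqueHom (fun E => ?_) (fun E m => ?_)⟩⟩
  · let β : F ⟶ L ⋙ E.right := E.hom
    have hi : ∀ X, IsIso (E.right.map (L.map (h.resι X))) := fun X => inferInstance
    have hia : ∀ X, IsIso (α.app (h.res X)) := fun X => hα _ (h.res_mem X)
    let δ : L ⋙ G ⟶ L ⋙ E.right :=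
      { app := fun X => G.map (L.map (h.resι X)) ≫ inv (α.app (h.res X)) ≫ β.app (h.res X) ≫
          inv (E.right.map (L.map (h.resι X)))
        naturality := fun X Y f => by
          obtain ⟨Q, s, g, hQ, hs, e⟩ := h.exists_lift f
          have : IsIso (E.right.map (L.map s)) :=
            have := Localization.inverts L W s hs
            inferInstance
          have hiQ : IsIso (α.app Q) := hα _ hQ
          rw [← cancel_mono (E.right.map (L.map (h.resι Y)) ≫ E.right.map (L.map s))]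
          simp only [Functor.comp_map, Category.assoc, IsIso.inv_hom_id_assoc]
          have hnβ : ∀ {Z} (u : h.res Z ⟶ Q),
              inv (α.app (h.res Z)) ≫ β.app (h.res Z) ≫ E.right.map (L.map u) =
                G.map (L.map u) ≫ inv (α.app Q) ≫ β.app Q := by
            intro Z u
            have hn : F.map u ≫ α.app Q = α.app (h.res Z) ≫ G.map (L.map u) := α.naturality u
            have hb : F.map u ≫ β.app Q = β.app (h.res Z) ≫ E.right.map (L.map u) := β.naturality u
            rw [← hb, ← cancel_epi (α.app (h.res Z)), IsIso.hom_inv_id_assoc, ← reassoc_of% hn,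
              IsIso.hom_inv_id_assoc]
          have he : E.right.map (L.map f) ≫ E.right.map (L.map (h.resι Y)) ≫ E.right.map (L.map s) =
              E.right.map (L.map (h.resι X)) ≫ E.right.map (L.map g) := by
            simp only [← Functor.map_comp, e]
          rw [he, IsIso.inv_hom_id_assoc, hnβ g, hnβ s]
          simp only [← Functor.map_comp_assoc]
          simp only [← L.map_comp, Category.assoc, e] }
    exact StructuredArrow.homMk (Localization.liftNatTrans L W (L ⋙ G) (L ⋙ E.right) G E.right δ) (by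
      ext X
      have hn : F.map (h.resι X) ≫ α.app (h.res X) = α.app X ≫ G.map (L.map (h.resι X)) :=
        α.naturality (h.resι X)
      have hb : F.map (h.resι X) ≫ β.app (h.res X) = β.app X ≫ E.right.map (L.map (h.resι X)) :=
        β.naturality (h.resι X)
      change α.app X ≫ (Localization.liftNatTrans L W (L ⋙ G) (L ⋙ E.right) G E.right δ).app (L.obj X) = β.app X
      simp only [Localization.liftNatTrans_app]
      simp [δ, ← reassoc_of% hn, reassoc_of% hb])
  · apply StructuredArrow.hom_ext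
    refine Localization.natTrans_ext L W fun X => ?_
    have hn : α.app (h.res X) ≫ m.right.app (L.obj (h.res X)) = E.hom.app (h.res X) :=
      congr_app (StructuredArrow.w m) (h.res X)
    have hm := m.right.naturality (L.map (h.resι X))
    have := hα _ (h.res_mem X)
    have := hL X
    rw [← cancel_mono (E.right.map (L.map (h.resι X)))]
    refine hm.symm.trans ?_
    erw [Localization.liftNatTrans_app]
    simp [← hn]
    erw [Category.id_comp]
    first | exact rfl | (erw [IsIso.inv_hom_id_assoc]; exact hm.symm)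

include h in
theorem isRightDerivedFunctor (G : D ⥤ H) (α : F ⟶ L ⋙ G)
    (hα : ∀ Q, P Q → IsIso (α.app Q)) : G.IsRightDerivedFunctor α W :=
  ⟨h.isLeftKanExtension G α hα⟩

include h in
theorem hasRightDerivedFunctor : F.HasRightDerivedFunctor W :=
  have := h.isRightDerivedFunctor (L := W.Q) (h.RF W.Q) (h.RFα W.Q) fun _ hQ => h.isIso_RFα_app hQ
  Functor.HasRightDerivedFunctor.mk' (W := W) (h.RF W.Q) (h.RFα W.Q)

include h in
/-- The unit of any right derived functor is invertible on `P`. -/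
theorem isIso_app_of_isRightDerivedFunctor (G : D ⥤ H) (α : F ⟶ L ⋙ G)
    [G.IsRightDerivedFunctor α W] {Q : C} (hQ : P Q) : IsIso (α.app Q) := by
  have := h.isRightDerivedFunctor (h.RF L) (h.RFα L) fun _ hQ => h.isIso_RFα_app hQ
  let e := Functor.rightDerivedUnique G (h.RF L) α (h.RFα L) W
  have hfac : α.app Q ≫ e.hom.app (L.obj Q) = (h.RFα L).app Q := by
    change α.app Q ≫ (G.rightDerivedNatTrans (h.RF L) α (h.RFα L) W (𝟙 F)).app _ = _
    rw [Functor.rightDerivedNatTrans_app]
    exact Category.id_comp _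
  have h1 : IsIso (α.app Q ≫ e.hom.app (L.obj Q)) := by
    rw [hfac]
    exact h.isIso_RFα_app hQ
  exact IsIso.of_isIso_comp_right (α.app Q) (e.hom.app (L.obj Q))

end RightResolvable

end GrothLib.CohDer19
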