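import Mathlib.Algebra.Homology.DerivedCategory.RightDerivedFunctorPlus
import Mathlib.CategoryTheory.Abelian.RightDerived
import Mathlib.CategoryTheory.Abelian.Injective.Extend
import Groth.Agent.Lib.BCCoh.MapExtend

/-!
When is the unit `F(K) ⟶ RF(K)` of the bounded below right derived functor an isomorphism?
-/

set_option autoImplicit false
universe w w' v v' u u'
open CategoryTheory CategoryTheory.Limits

namespace GrothLib.CohDer19

variable {A : Type u} [Category.{v} A] [Abelian A] [HasDerivedCategory.{w} A] [EnoughInjectives A]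
  {B : Type u'} [Category.{v'} B] [Abelian B] [HasDerivedCategory.{w'} B]
  (F : A ⥤ B) [F.Additive]

/-- The unit is invertible on bounded below complexes of injectives. -/
lemma isIso_unit_of_injective (M : CochainComplex.Plus A) (hM : ∀ n, Injective (M.obj.X n)) :
    IsIso (F.rightDerivedFunctorPlusUnit.app ((HomotopyCategory.Plus.quotient A).obj M)) := by
  obtain ⟨M, m, hm⟩ := M
  let L' : CochainComplex (InjectiveObject A) ℤ := HomologicalComplex.liftObjectProperty _ M hM
  have hL' : L'.IsStrictlyGE m := by
    rwa [← CochainComplex.isStrictlyGE_mapHomologicalComplex_obj_iff _ (InjectiveObject.ι _)]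
  let L : CochainComplex.Plus (InjectiveObject A) := ⟨L', m, hL'⟩
  exact (inferInstance : IsIso (F.rightDerivedFunctorPlusUnit.app
    ((HomotopyCategory.Plus.quotient A).obj ((InjectiveObject.ι A).mapCochainComplexPlus.obj L))))

/-- Quasi-isomorphism criterion for the unit to be invertible. -/
lemma isIso_unit_iff {K M : CochainComplex.Plus A} (i : K ⟶ M) [QuasiIso i.hom]
    (hM : ∀ n, Injective (M.obj.X n)) :
    IsIso (F.rightDerivedFunctorPlusUnit.app ((HomotopyCategory.Plus.quotient A).obj K)) ↔
      QuasiIso ((F.mapHomologicalComplex (ComplexShape.up ℤ)).map i.hom) := by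
  let q := (HomotopyCategory.Plus.quotient A).map i
  have h₁ : IsIso (DerivedCategory.Plus.Qh.map q) := by
    refine (isIso_iff_of_reflects_iso _ DerivedCategory.Plus.ι).1 ?_
    exact (NatIso.isIso_map_iff (DerivedCategory.quotientCompQhIso A) i.hom).2 inferInstance
  have h₂ := isIso_unit_of_injective F M hM
  have h₃ : IsIso (DerivedCategory.Plus.Qh.map (F.mapHomotopyCategoryPlus.map q)) ↔
      QuasiIso ((F.mapHomologicalComplex (ComplexShape.up ℤ)).map i.hom) := by
    rw [← isIso_iff_of_reflects_iso _ DerivedCategory.Plus.ι,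
      ← DerivedCategory.isIso_Q_map_iff_quasiIso]
    exact NatIso.isIso_map_iff (DerivedCategory.quotientCompQhIso B)
      ((F.mapHomologicalComplex (ComplexShape.up ℤ)).map i.hom)
  have e := F.rightDerivedFunctorPlusUnit.naturality q
  dsimp at e
  rw [← h₃]
  constructor
  · intro h
    have : IsIso (DerivedCategory.Plus.Qh.map (F.mapHomotopyCategoryPlus.map q) ≫
        F.rightDerivedFunctorPlusUnit.app _) := by rw [e]; infer_instance
    exact IsIso.of_isIso_comp_right _
      (F.rightDerivedFunctorPlusUnit.app ((HomotopyCategory.Plus.quotient A).obj M))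
  · intro h
    have : IsIso (F.rightDerivedFunctorPlusUnit.app ((HomotopyCategory.Plus.quotient A).obj K) ≫
        F.rightDerivedFunctorPlus.map (DerivedCategory.Plus.Qh.map q)) := by
      rw [← e]; infer_instance
    exact IsIso.of_isIso_comp_right _
      (F.rightDerivedFunctorPlus.map (DerivedCategory.Plus.Qh.map q))

omit [Abelian A] [HasDerivedCategory.{w} A] [EnoughInjectives A] [Abelian B] [HasDerivedCategory.{w'} B] in
lemma isIso_comp_comp_iff {a b c d : B} (f : a ⟶ b) (g : b ⟶ c) (h : c ⟶ d) (_ : IsIso h) :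
    IsIso (f ≫ g ≫ h) ↔ IsIso (f ≫ g) := by
  rw [← Category.assoc, isIso_comp_right_iff]

omit [HasDerivedCategory.{w} A] [HasDerivedCategory.{w'} B] in
lemma quasiIso_map_resolution_iff {X : A} (I : InjectiveResolution X) :
    QuasiIso ((F.mapHomologicalComplex (ComplexShape.up ℕ)).map I.ι) ↔
      (IsIso (F.toRightDerivedZero.app X) ∧ ∀ i : ℕ, 0 < i → IsZero ((F.rightDerived i).obj X)) := by
  let f := (F.mapHomologicalComplex (ComplexShape.up ℕ)).map I.ι
  have hsrc : ∀ j, 0 < j → IsZero
      (((F.mapHomologicalComplex (ComplexShape.up ℕ)).obj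
        ((CochainComplex.single₀ A).obj X)).homology j) := fun j hj =>
    (HomologicalComplex.exactAt_iff_isZero_homology _ _).1
      (ShortComplex.exact_of_isZero_X₂ _ (F.map_isZero
        (HomologicalComplex.isZero_single_obj_X _ _ _ _ (by omega))))
  have h0 : IsIso (F.toRightDerivedZero.app X) ↔ IsIso (HomologicalComplex.homologyMap f 0) := by
    let S := (F.mapHomologicalComplex (ComplexShape.up ℕ)).obj ((CochainComplex.single₀ A).obj X)
    let c : F.obj X ⟶ S.cycles 0 := S.liftCycles (𝟙 (F.obj X)) 1 (by simp) (by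
      show 𝟙 _ ≫ F.map _ = 0
      erw [HomologicalComplex.single_obj_d, F.map_zero, comp_zero])
    have hci : c ≫ S.iCycles 0 = 𝟙 (F.obj X) := S.liftCycles_i _ _ _ _
    have hc : IsIso c := by
      refine ⟨S.iCycles 0, hci, ?_⟩
      rw [← cancel_mono (S.iCycles 0)]
      exact ((Category.assoc _ _ _).trans ((congrArg _ hci).trans (Category.comp_id _))).trans
        (Category.id_comp _).symm
    have he : I.toRightDerivedZero' F = c ≫ HomologicalComplex.cyclesMap f 0 := by
      rw [← cancel_mono (HomologicalComplex.iCycles _ _), Category.assoc,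
        HomologicalComplex.cyclesMap_i, InjectiveResolution.toRightDerivedZero'_comp_iCycles]
      exact (((reassoc_of% hci) _).trans (Category.id_comp _)).symm
    have hn := HomologicalComplex.homologyπ_naturality f 0
    have : IsIso (I.isoRightDerivedObj F 0).inv := Iso.isIso_inv _
    rw [I.toRightDerivedZero_eq F, he, Category.assoc, isIso_comp_left_iff]
    refine (isIso_comp_comp_iff _ _ _ this).trans ?_
    show IsIso (HomologicalComplex.cyclesMap f 0 ≫ HomologicalComplex.homologyπ _ 0) ↔ _
    have : IsIso (S.homologyπ 0) := (CochainComplex.isoHomologyπ₀ S).isIso_hom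
    rw [← hn, isIso_comp_left_iff]
  rw [quasiIso_iff, h0]
  refine ⟨fun h => ⟨(quasiIsoAt_iff_isIso_homologyMap f 0).1 (h 0), fun i hi => ?_⟩,
    fun ⟨ha, hb⟩ i => ?_⟩
  · have := (quasiIsoAt_iff_isIso_homologyMap f i).1 (h i)
    exact ((hsrc i hi).of_iso (asIso (HomologicalComplex.homologyMap f i)).symm).of_iso
      (I.isoRightDerivedObj F i)
  · rw [quasiIsoAt_iff_isIso_homologyMap]
    rcases Nat.eq_zero_or_pos i with rfl | hi
    · exact ha
    · exact isIso_of_source_target_iso_zero _ (hsrc i hi).isoZero
        ((hb i hi).of_iso (I.isoRightDerivedObj F i).symm).isoZero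

/-- The unit on `X[0]`. -/
theorem isIso_unit_single_iff (X : A) :
    IsIso (F.rightDerivedFunctorPlusUnit.app ((HomotopyCategory.Plus.singleFunctor A 0).obj X)) ↔
      (IsIso (F.toRightDerivedZero.app X) ∧ ∀ i : ℕ, 0 < i → IsZero ((F.rightDerived i).obj X)) := by
  let I := injectiveResolution X
  let K : CochainComplex.Plus A := ⟨(CochainComplex.singleFunctor A 0).obj X, 0, inferInstance⟩
  let M : CochainComplex.Plus A := ⟨I.cochainComplex, 0, inferInstance⟩
  let i : K ⟶ M := ObjectProperty.homMk I.ι'
  have : QuasiIso i.hom := inferInstanceAs (QuasiIso I.ι')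
  have hM : ∀ n, Injective (M.obj.X n) := fun n => inferInstanceAs (Injective (I.cochainComplex.X n))
  let e : (HomotopyCategory.Plus.singleFunctor A 0).obj X ≅
      (HomotopyCategory.Plus.quotient A).obj K :=
    (HomotopyCategory.Plus.ι A).preimageIso
      (eqToIso (HomotopyCategory.quotient_obj_singleFunctors_obj A 0 X).symm)
  rw [NatTrans.isIso_app_iff_of_iso _ e, isIso_unit_iff F i hM, ← quasiIso_map_resolution_iff F I,
    ← HomologicalComplex.quasiIso_extendMap_iff _ ComplexShape.embeddingUpNat]
  show QuasiIso ((F.mapHomologicalComplex (ComplexShape.up ℤ)).map I.ι') ↔ _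
  unfold InjectiveResolution.ι'
  let e₀ := HomologicalComplex.extendSingleIso ComplexShape.embeddingUpNat X 0 0 rfl
  have hq : QuasiIso ((F.mapHomologicalComplex (ComplexShape.up ℤ)).map e₀.inv) :=
    inferInstanceAs (QuasiIso ((F.mapHomologicalComplex (ComplexShape.up ℤ)).mapIso e₀.symm).hom)
  show QuasiIso ((F.mapHomologicalComplex (ComplexShape.up ℤ)).map
    (e₀.inv ≫ HomologicalComplex.extendMap I.ι ComplexShape.embeddingUpNat)) ↔ _
  rw [Functor.map_comp, quasiIso_iff_comp_left]
  exact quasiIso_iff_of_arrow_mk_iso _ _ (Arrow.isoMk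
    (GrothLib.BCCoh.mapExtendIso ComplexShape.embeddingUpNat F _)
    (GrothLib.BCCoh.mapExtendIso ComplexShape.embeddingUpNat F _)
    (GrothLib.BCCoh.mapExtendIso_natural' ComplexShape.embeddingUpNat F _ I.ι).symm)

end GrothLib.CohDer19
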